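import Groth.Agent.H16Derived.RGammaZ.Univ
import Groth.Agent.H16Derived.QCohD.RpushCoprod
import Groth.Agent.H16Derived.ProjFormula.DQc
import Groth.Agent.H16Derived.TriangleCriterion

/-!
# Sections with support and direct images, pullbacks, direct sums
-/

set_option autoImplicit false
set_option linter.style.haveILetI false
set_option backward.isDefEq.respectTransparency false

universe u

open CategoryTheory CategoryTheory.Limits CategoryTheory.Pretriangulated AlgebraicGeometry

attribute [local instance] HasDerivedCategory.standard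

namespace Groth.Agent.H16Derived.RGammaZ

open Groth.Agent.H16Derived.KFlat Groth.Agent.H16Derived.KFlat.Stalk

variable {X Y : Scheme.{u}}

/-- Vanishing over an open is inherited by direct images. -/
theorem isZero_rd_rpush (f : X ⟶ Y) [DCoh.HasRpush f] (V : Y.Opens) {F : DCoh.D X}
    (h : IsZero ((rd (f ⁻¹ᵁ V).ι).obj F)) : IsZero ((rd V.ι).obj ((DCoh.Rpush f).obj F)) := by
  haveI := QCohD.hasRpush (f ∣_ V)
  obtain ⟨e⟩ := nonempty_restrictD_rpush_iso f V
  letI := rpushCommShift (f ∣_ V)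
  haveI := rpush_isTriangulated (f ∣_ V)
  exact ((DCoh.Rpush (f ∣_ V)).map_isZero h).of_iso (e.app F)

/-- Vanishing over an open is inherited by inverse images. -/
theorem isZero_rd_lpull (f : X ⟶ Y) [DCoh.HasLpull f] (V : Y.Opens) {F : DCoh.D Y}
    (h : IsZero ((rd V.ι).obj F)) : IsZero ((rd (f ⁻¹ᵁ V).ι).obj ((DCoh.Lpull f).obj F)) := by
  haveI := hasLpull (f ∣_ V)
  obtain ⟨e⟩ := ProjFormula.nonempty_rd_lpull f V F
  letI := lpullCommShift (f ∣_ V)
  haveI := lpull_isTriangulated (f ∣_ V)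
  exact ((DCoh.Lpull (f ∣_ V)).map_isZero h).of_iso e

/-- Direct images of local objects are local. -/
theorem Loc.rpush (f : X ⟶ Y) [DCoh.HasRpush f] (V : Y.Opens) {C : DCoh.D X}
    (h : Loc (f ⁻¹ᵁ V).ι C) : Loc V.ι ((DCoh.Rpush f).obj C) := fun B hB g => by
  haveI := hasLpull f
  refine ((lpullRpushAdj f).homEquiv B C).symm.injective ?_
  exact (h _ (isZero_rd_lpull f V hB) _).trans (h _ (isZero_rd_lpull f V hB) _).symm

section Sigma

variable {U : Scheme.{u}} (j : U ⟶ X) [IsOpenImmersion j] [QuasiCompact j] [CxOX.HasRgammaZ j]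

/-- `RΓ_Z` commutes with direct sums of quasi-coherent complexes. -/
theorem isIso_sigma {ι : Type u} (E : ι → DCoh.D X) (hE : ∀ i, DCoh.IsQCohD (E i)) [HasCoproduct E]
    [HasCoproduct (fun i => (CxOX.RgammaZ j).obj (E i))] :
    IsIso (Sigma.desc (fun i => (CxOX.RgammaZ j).map (Sigma.ι E i))) := by
  haveI := Thomason.hasCoproducts_D X
  haveI := Thomason.hasCoproducts_D U
  haveI := QCohD.hasRpush j
  let ε := CxOX.RgammaZToId j
  choose C p w hT hz G e using fun i => exists_triangle j (E i)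
  let eC : ∀ i, C i ≅ (DCoh.Rpush j).obj (G i) := fun i => (e i).some
  have hT' := H16Derived.coproductTriangle_distinguished
    (fun i => Triangle.mk (ε.app (E i)) (p i) (w i)) hT
  have hG : ∀ i, DCoh.IsQCohD (G i) := fun i => by
    haveI := Thomason.isIso_restrictRpushAdj_counit j
    have hC : DCoh.IsQCohD (C i) := QCohD.AffineUnit.isQCohD_obj₃ (hT i) (isQCohD_rgammaZ (hE i)) (hE i)
    exact QCohD.isQCohD_iso ((rd j).mapIso (eC i) ≪≫ (asIso (Thomason.restrictRpushAdj j).counit).app (G i))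
      (QCohD.isQCohD_rd j hC)
  haveI := QCohD.isIso_rpush_sigma j G hG
  let eS : (∐ C) ≅ (DCoh.Rpush j).obj (∐ G) :=
    Sigma.mapIso eC ≪≫ asIso (Sigma.desc (fun i => (DCoh.Rpush j).map (Sigma.ι G i)))
  have hA : IsZero ((rd j).obj (∐ fun i => (CxOX.RgammaZ j).obj (E i))) := by
    haveI := (Thomason.restrictRpushAdj j).isLeftAdjoint
    refine IsZero.of_iso ?_ (PreservesCoproduct.iso (rd j) _)
    exact (IsZero.iff_id_eq_zero _).2 (Sigma.hom_ext _ _ fun i => (hz i).eq_of_src _ _)
  exact isIso_of_loc (g := Limits.Sigma.map fun i => ε.app (E i)) _ hA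
    (Sigma.hom_ext _ _ fun i => by
      rw [Sigma.ι_desc_assoc, Sigma.ι_map]
      exact ε.naturality (Sigma.ι E i)) hT' ((loc_rpush j _).of_iso eS.symm)

end Sigma

end Groth.Agent.H16Derived.RGammaZ
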