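import Groth.Agent.H15Site.LocCohQCoh
import Groth.Agent.H02CA.SkyZero.Scheme
import Groth.Agent.H16Derived.ExactAdj
import Groth.Agent.H16Derived.Thomason.Adj
import Groth.Agent.H16Derived.KFlat.PushPull
import Groth.Agent.H16Derived.QCohD.RpushUnb
import Groth.Agent.H16Derived.QCohD.Lpull
import Groth.Agent.H16Derived.QCohD.AffineReflect
import Mathlib.CategoryTheory.Triangulated.Yoneda
import Mathlib.Algebra.Homology.DerivedCategory.ShortExact

/-!
# The derived functor of sections with support

For an open immersion `j : U ⟶ X`, `RΓ_Z K ⟶ K` is characterised by: `RΓ_Z K` vanishes on `U` and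
the cone is right orthogonal to objects vanishing on `U`.
-/

set_option autoImplicit false
set_option linter.style.haveILetI false
set_option backward.isDefEq.respectTransparency false

universe u

open CategoryTheory CategoryTheory.Limits CategoryTheory.Pretriangulated AlgebraicGeometry

attribute [local instance] HasDerivedCategory.standard

namespace Groth.Agent.H16Derived.RGammaZ

open Groth.Agent.H16Derived.KFlat Groth.Agent.H16Derived.KFlat.Stalk

variable {U X : Scheme.{u}} (j : U ⟶ X) [IsOpenImmersion j]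

/-- Objects receiving no maps from objects vanishing on `U`. -/
def Loc (C : DCoh.D X) : Prop :=
  ∀ B : DCoh.D X, IsZero ((rd j).obj B) → ∀ f : B ⟶ C, f = 0

variable {j}

theorem Loc.of_iso {C C' : DCoh.D X} (e : C ≅ C') (h : Loc j C) : Loc j C' := fun B hB f => by
  rw [← cancel_mono e.inv, zero_comp]
  exact h B hB _

theorem isZero_rd_shift {B : DCoh.D X} (h : IsZero ((rd j).obj B)) (n : ℤ) :
    IsZero ((rd j).obj (B⟦n⟧)) :=
  (Functor.map_isZero (shiftFunctor _ n) h).of_iso (((rd j).commShiftIso n).app B)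

theorem Loc.shift {C : DCoh.D X} (h : Loc j C) (n : ℤ) : Loc j (C⟦n⟧) := fun B hB f => by
  refine (((shiftEquiv (DCoh.D X) n).symm.toAdjunction).homEquiv B C).symm.injective ?_
  exact (h _ (isZero_rd_shift hB _) _).trans (h _ (isZero_rd_shift hB _) _).symm

variable (j)

theorem loc_rpush [DCoh.HasRpush j] (G : DCoh.D U) : Loc j ((DCoh.Rpush j).obj G) := fun B hB f => by
  refine ((Thomason.restrictRpushAdj j).homEquiv B G).symm.injective ?_
  exact hB.eq_of_src _ _

theorem isIso_counit [DCoh.HasRpush j] (adj : rd j ⊣ DCoh.Rpush j) : IsIso adj.counit := by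
  haveI := Thomason.isIso_restrictRpushAdj_counit j
  haveI := (Thomason.restrictRpushAdj j).fullyFaithfulROfIsIsoCounit.full
  haveI := (Thomason.restrictRpushAdj j).fullyFaithfulROfIsIsoCounit.faithful
  infer_instance

theorem isIso_rd_unit [DCoh.HasRpush j] (adj : rd j ⊣ DCoh.Rpush j) (E : DCoh.D X) :
    IsIso ((rd j).map (adj.unit.app E)) := by
  haveI := isIso_counit j adj
  haveI : IsIso ((rd j).map (adj.unit.app E) ≫ adj.counit.app ((rd j).obj E)) := by
    exact (adj.left_triangle_components E).symm ▸ (inferInstance : IsIso (𝟙 ((rd j).obj E)))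
  exact IsIso.of_isIso_comp_right _ (adj.counit.app ((rd j).obj E))

theorem hasPointwise : (CxOX.gammaZKh j).HasPointwiseRightDerivedFunctor
    (HomotopyCategory.quasiIso X.Modules (ComplexShape.up ℤ)) :=
  RDerived.hasPointwiseRightDerivedFunctor_of_resolutions DerivedCategory.Qh _ _ fun M => by
    obtain ⟨I, hI, s, hs⟩ := exists_local M
    exact ⟨_, s, hs, fun K => CochainComplex.IsKInjective.Qh_map_bijective K I⟩

/-- `RΓ_Z` exists. -/
theorem hasRgammaZ : CxOX.HasRgammaZ j := by
  haveI := hasPointwise j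
  exact inferInstance

section Seq

variable (I : CochainComplex X.Modules ℤ)

/-- `Γ_Z I ⟶ I ⟶ j_* j^* I`. -/
noncomputable def seq : ShortComplex (CochainComplex X.Modules ℤ) :=
  ShortComplex.mk
    ((NatTrans.mapHomologicalComplex (CxOX.gammaZι j) (ComplexShape.up ℤ)).app I ≫
      (Functor.mapHomologicalComplexIdIso X.Modules (ComplexShape.up ℤ)).hom.app I)
    (show I ⟶ ((Scheme.Modules.pushforward j).mapHomologicalComplex (ComplexShape.up ℤ)).obj
        (((Scheme.Modules.restrictFunctor j).mapHomologicalComplex (ComplexShape.up ℤ)).obj I) from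
      (mapHomologicalComplexAdj (Scheme.Modules.restrictAdjunction j) (ComplexShape.up ℤ)).unit.app I)
    (HomologicalComplex.hom_ext _ _ fun n => by
      show (kernel.ι ((Scheme.Modules.restrictAdjunction j).unit.app (I.X n)) ≫ 𝟙 _) ≫
        (Scheme.Modules.restrictAdjunction j).unit.app (I.X n) = 0
      rw [Category.comp_id, kernel.condition])

variable (hI : ∀ n, Injective (I.X n))

include hI in
theorem seq_shortExact : (seq j I).ShortExact := by
  refine HomologicalComplex.shortExact_of_degreewise_shortExact _ fun n => ?_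
  haveI := hI n
  refine ShortComplex.shortExact_of_iso
    (S₁ := ShortComplex.mk (kernel.ι ((Scheme.Modules.restrictAdjunction j).unit.app (I.X n)))
      ((Scheme.Modules.restrictAdjunction j).unit.app (I.X n)) (kernel.condition _))
    (ShortComplex.isoMk (Iso.refl _) (Iso.refl _) (Iso.refl _) ?_ ?_) ?_
  · show 𝟙 _ ≫ (kernel.ι ((Scheme.Modules.restrictAdjunction j).unit.app (I.X n)) ≫ 𝟙 _) =
      kernel.ι ((Scheme.Modules.restrictAdjunction j).unit.app (I.X n)) ≫ 𝟙 _
    rw [Category.id_comp]
  · show 𝟙 _ ≫ (Scheme.Modules.restrictAdjunction j).unit.app (I.X n) =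
      (Scheme.Modules.restrictAdjunction j).unit.app (I.X n) ≫ 𝟙 _
    rw [Category.id_comp, Category.comp_id]
  · exact ShortComplex.ShortExact.mk'
      (ShortComplex.exact_of_f_is_kernel _ (kernelIsKernel _)) inferInstance
      (H15Site.LocCohQCoh.epi_rest j (I.X n))

theorem isZero_restrict_gammaZ (M : X.Modules) :
    IsZero ((Scheme.Modules.restrictFunctor j).obj ((DCoh.gammaZ j).obj M)) := by
  let F := Scheme.Modules.restrictFunctor j
  let adj := Scheme.Modules.restrictAdjunction j
  haveI : IsIso (F.map (adj.unit.app M)) := by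
    haveI : IsIso (F.map (adj.unit.app M) ≫ adj.counit.app (F.obj M)) := by
      exact (adj.left_triangle_components M).symm ▸ (inferInstance : IsIso (𝟙 (F.obj M)))
    exact IsIso.of_isIso_comp_right _ (adj.counit.app (F.obj M))
  have h : F.map (kernel.ι (adj.unit.app M)) = 0 := by
    rw [← cancel_mono (F.map (adj.unit.app M)), ← Functor.map_comp, kernel.condition, Functor.map_zero,
      zero_comp]
  haveI : Mono (F.map (kernel.ι (adj.unit.app M))) :=
    inferInstanceAs (Mono ((Scheme.Modules.restrictFunctor j).map (kernel.ι (adj.unit.app M))))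
  exact IsZero.of_mono_eq_zero (F.map (kernel.ι (adj.unit.app M))) h

theorem isZero_rd_gammaZ :
    IsZero ((rd j).obj (DerivedCategory.Q.obj
      (((DCoh.gammaZ j).mapHomologicalComplex (ComplexShape.up ℤ)).obj I))) := by
  refine IsZero.of_iso ?_ ((rdQ j).app _)
  refine Functor.map_isZero DerivedCategory.Q ((IsZero.iff_id_eq_zero _).2 ?_)
  exact HomologicalComplex.hom_ext _ _ fun n => (isZero_restrict_gammaZ j (I.X n)).eq_of_src _ _

variable [CxOX.HasRgammaZ j] [I.IsKInjective]

/-- The unit of `RΓ_Z`. -/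
noncomputable abbrev gammaUnit :=
  (CxOX.gammaZKh j).totalRightDerivedUnit DerivedCategory.Qh
    (HomotopyCategory.quasiIso X.Modules (ComplexShape.up ℤ))

theorem isIso_gammaUnit :
    IsIso ((gammaUnit j).app ((HomotopyCategory.quotient _ _).obj I)) := by
  haveI := hasPointwise j
  exact RDerived.isIso_unit_app_of_bijective DerivedCategory.Qh
    (HomotopyCategory.quasiIso X.Modules (ComplexShape.up ℤ)) _ _ (gammaUnit j) _
    fun K => CochainComplex.IsKInjective.Qh_map_bijective K I

theorem exists_gammaIso :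
    ∃ e : DerivedCategory.Q.obj (((DCoh.gammaZ j).mapHomologicalComplex (ComplexShape.up ℤ)).obj I) ≅
        (CxOX.RgammaZ j).obj (DerivedCategory.Q.obj I),
      e.hom ≫ (CxOX.RgammaZToId j).app (DerivedCategory.Q.obj I) =
        DerivedCategory.Q.map (seq j I).f := by
  haveI := isIso_gammaUnit j I
  let q := DerivedCategory.quotientCompQhIso X.Modules
  let K := (HomotopyCategory.quotient X.Modules (ComplexShape.up ℤ)).obj I
  let c := ((DCoh.gammaZ j).mapHomotopyCategoryFactors (ComplexShape.up ℤ)).app I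
  let e : DerivedCategory.Q.obj (((DCoh.gammaZ j).mapHomologicalComplex (ComplexShape.up ℤ)).obj I) ≅
      (CxOX.RgammaZ j).obj (DerivedCategory.Q.obj I) :=
    (q.app _).symm ≪≫ DerivedCategory.Qh.mapIso c.symm ≪≫ asIso ((gammaUnit j).app K) ≪≫
      (CxOX.RgammaZ j).mapIso (q.app I)
  refine ⟨e, ?_⟩
  have hfac : (gammaUnit j).app K ≫ (CxOX.RgammaZToId j).app (DerivedCategory.Qh.obj K) =
      (CxOX.gammaZKhι j).app K ≫ (Functor.rightUnitor DerivedCategory.Qh).inv.app K :=
    congr_app ((CxOX.RgammaZ j).rightDerived_fac (gammaUnit j)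
      (HomotopyCategory.quasiIso X.Modules (ComplexShape.up ℤ)) (𝟭 (DCoh.D X))
      (CxOX.gammaZKhι j ≫ (Functor.rightUnitor _).inv)) K
  have hnat : (CxOX.RgammaZ j).map (q.hom.app I) ≫ (CxOX.RgammaZToId j).app (DerivedCategory.Q.obj I) =
      (CxOX.RgammaZToId j).app (DerivedCategory.Qh.obj K) ≫ q.hom.app I :=
    (CxOX.RgammaZToId j).naturality (q.hom.app I)
  have hι : (CxOX.gammaZKhι j).app K =
      DerivedCategory.Qh.map c.hom ≫
        DerivedCategory.Qh.map ((HomotopyCategory.quotient _ _).map (seq j I).f) := by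
    simp only [CxOX.gammaZKhι, K, c]
    erw [Quotient.natTransLift_app]
    simp only [NatTrans.comp_app, Functor.associator_inv_app, Functor.associator_hom_app,
      Functor.whiskerRight_app, Functor.leftUnitor_hom_app, Category.id_comp, Category.comp_id]
    exact congrArg (_ ≫ ·) ((congrArg (_ ≫ ·) (Category.comp_id _)).trans (Functor.map_comp _ _ _).symm)
  show ((q.inv.app _) ≫ DerivedCategory.Qh.map c.inv ≫ (gammaUnit j).app K ≫
    (CxOX.RgammaZ j).map (q.hom.app I)) ≫ (CxOX.RgammaZToId j).app (DerivedCategory.Q.obj I) = _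
  simp only [Category.assoc]
  rw [hnat, reassoc_of% hfac]
  erw [Category.id_comp]
  rw [hι, Category.assoc, ← Category.assoc (DerivedCategory.Qh.map c.inv), ← Functor.map_comp,
    Iso.inv_hom_id]
  refine (congrArg (· ≫ _) (DerivedCategory.Qh.map_id _)).trans ((Category.id_comp _).trans ?_)
  refine (congrArg (_ ≫ ·) (Category.id_comp _)).trans ?_
  exact (q.hom.naturality (seq j I).f).trans (Category.id_comp _)

end Seq

variable [CxOX.HasRgammaZ j]

/-- The fundamental triangle. -/
theorem exists_triangle [DCoh.HasRpush j] (K : DCoh.D X) :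
    ∃ (C : DCoh.D X) (p : K ⟶ C) (w : C ⟶ ((CxOX.RgammaZ j).obj K)⟦(1 : ℤ)⟧),
      Triangle.mk ((CxOX.RgammaZToId j).app K) p w ∈ distTriang (DCoh.D X) ∧
        IsZero ((rd j).obj ((CxOX.RgammaZ j).obj K)) ∧
        ∃ G : DCoh.D U, Nonempty (C ≅ (DCoh.Rpush j).obj G) := by
  obtain ⟨I, hI, hinj, ⟨eK⟩⟩ := MVPush.exists_rep K
  haveI := hI
  obtain ⟨e, he⟩ := exists_gammaIso j I
  have hS := seq_shortExact j I hinj
  let T := DerivedCategory.triangleOfSES hS
  obtain ⟨C, p, w, hT⟩ := distinguished_cocone_triangle ((CxOX.RgammaZToId j).app K)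
  let ε := (CxOX.RgammaZToId j)
  let a : DerivedCategory.Q.obj (((DCoh.gammaZ j).mapHomologicalComplex (ComplexShape.up ℤ)).obj I) ≅
      (CxOX.RgammaZ j).obj K := e ≪≫ (CxOX.RgammaZ j).mapIso eK
  have ha : DerivedCategory.Q.map (seq j I).f ≫ eK.hom = a.hom ≫ ε.app K := by
    rw [← he, Category.assoc]
    exact (congrArg (e.hom ≫ ·) (ε.naturality eK.hom).symm).trans (Category.assoc _ _ _).symm
  haveI hKI : CochainComplex.IsKInjective
      (((Scheme.Modules.restrictFunctor j).mapHomologicalComplex (ComplexShape.up ℤ)).obj I) := by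
    haveI := H02CA.SkyZero.preservesFiniteLimits_extZero j
    haveI : (CxOX.extZero j).IsLeftAdjoint := (CxOX.extZeroAdj j).isLeftAdjoint
    haveI : (CxOX.extZero j).Additive := (CxOX.extZeroAdj j).left_adjoint_additive
    exact ExactAdj.isKInjective_map (CxOX.extZeroAdj j) I
  refine ⟨C, p, w, hT, (isZero_rd_gammaZ j I).of_iso ((rd j).mapIso a).symm,
    DerivedCategory.Q.obj _, ⟨?_ ≪≫ (MVPush.rpushObjIso j (((Scheme.Modules.restrictFunctor j).mapHomologicalComplex (ComplexShape.up ℤ)).obj I) (Iso.refl _)).symm⟩⟩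
  exact (Triangle.π₃.mapIso (Pretriangulated.isoTriangleOfIso₁₂ T (Triangle.mk (ε.app K) p w)
    (DerivedCategory.triangleOfSES_distinguished hS) hT a eK ha)).symm

end Groth.Agent.H16Derived.RGammaZ
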