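import Groth.Agent.H16Derived.RGammaZ.CechLoc
import Groth.Agent.H16Derived.ProjFormula.DMap
import Mathlib.Algebra.Homology.HomotopyCategory.MappingCocone

/-!
# The extended Čech complex computes sections with support
-/

set_option autoImplicit false
set_option linter.style.haveILetI false
set_option backward.isDefEq.respectTransparency false

universe u

open CategoryTheory CategoryTheory.Limits CategoryTheory.Pretriangulated AlgebraicGeometry Opposite

attribute [local instance] HasDerivedCategory.standard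

namespace Groth.Agent.H16Derived.RGammaZ

open Groth.Agent.H16Derived.KFlat Groth.Agent.H16Derived.KFlat.Stalk

variable {A : Type u} [CommRing A] [PreservesFiniteLimits (tilde.functor (CommRingCat.of A))]

/-- The cocone triangle in the derived category. -/
theorem cocone_distinguished {K L : DRing.Cx A} (φ : K ⟶ L) :
    DerivedCategory.Q.mapTriangle.obj (CochainComplex.mappingCocone.triangle φ) ∈
      distTriang (DerivedCategory (ModuleCat.{u} A)) := by
  refine (Pretriangulated.rotate_distinguished_triangle _).2 (isomorphic_distinguished _ ?_ _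
    (((Functor.mapTriangleRotateIso DerivedCategory.Q).app _) ≪≫
      DerivedCategory.Q.mapTriangle.mapIso (CochainComplex.mappingCocone.rotateTriangleIso φ)))
  exact (DerivedCategory.mem_distTriang_iff _).2 ⟨K, L, φ, ⟨Iso.refl _⟩⟩

/-- `~` on complexes. -/
noncomputable abbrev tC : DRing.Cx A ⥤ CochainComplex (Spec (CommRingCat.of A)).Modules ℤ :=
  (tilde.functor (CommRingCat.of A)).mapHomologicalComplex (ComplexShape.up ℤ)

variable (f : A)

/-- The localisation map is an isomorphism on `D(f)`. -/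
theorem isIso_rd_locUnit (K : DRing.Cx A) :
    IsIso ((rd (Df f).ι).map ((DCoh.tildeD (CommRingCat.of A)).map
      (DerivedCategory.Q.map (DerCA.locCxUnit (Submonoid.powers f) K)))) := by
  let R := (Scheme.Modules.restrictFunctor (Df f).ι).mapHomologicalComplex (ComplexShape.up ℤ)
  let u := DerCA.locCxUnit (Submonoid.powers f) K
  haveI : ∀ i, IsIso ((R.map (tC.map u)).f i) := fun i => isIso_restrict_locUnit f (K.X i)
  haveI := HomologicalComplex.Hom.isIso_of_components (R.map (tC.map u))
  exact (NatIso.isIso_map_iff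
    ((Functor.associator _ _ _).symm ≪≫
      Functor.isoWhiskerRight (tilde.functor (CommRingCat.of A)).mapDerivedCategoryFactors (rd (Df f).ι) ≪≫
      Functor.associator _ _ _ ≪≫ Functor.isoWhiskerLeft tC (rdQ (Df f).ι) :
      DerivedCategory.Q ⋙ DCoh.tildeD (CommRingCat.of A) ⋙ rd (Df f).ι ≅
        tC ⋙ R ⋙ DerivedCategory.Q) u).2
    (inferInstanceAs (IsIso (DerivedCategory.Q.map (R.map (tC.map u)))))

/-- Localised complexes are direct images from `D(f)`. -/
theorem loc_locCx (K : DRing.Cx A) :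
    Loc (Df f).ι ((DCoh.tildeD (CommRingCat.of A)).obj
      (DerivedCategory.Q.obj ((DerCA.locCx (Submonoid.powers f)).obj K))) := by
  let ι := (Df f).ι
  haveI := QCohD.hasRpush ι
  haveI := isAffineHom_ι_Df f
  let L := tC.obj ((DerCA.locCx (Submonoid.powers f)).obj K)
  let F := ((Scheme.Modules.restrictFunctor ι).mapHomologicalComplex (ComplexShape.up ℤ)).obj L
  let η : L ⟶ ((Scheme.Modules.pushforward ι).mapHomologicalComplex (ComplexShape.up ℤ)).obj F :=
    (mapHomologicalComplexAdj (Scheme.Modules.restrictAdjunction ι) (ComplexShape.up ℤ)).unit.app L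
  haveI : ∀ i, IsIso (η.f i) := fun i => isIso_unit_loc f (K.X i)
  haveI := HomologicalComplex.Hom.isIso_of_components η
  have hF : ∀ i, Coh.IsQCoh (F.X i) := fun i => by
    haveI : (L.X i).IsQuasicoherent :=
      (inferInstance : (tilde (R := CommRingCat.of A)
        ((DerCA.locFunctor (Submonoid.powers f)).obj (K.X i))).IsQuasicoherent)
    exact Scheme.Modules.isQuasicoherent_restrictFunctor ι (L.X i)
  haveI : IsIso ((ProjFormula.η₀ ι).app F) := by
    haveI := QCohD.AffineUnit.isIso_rpushUnit_qcoh ι F hF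
    simp only [ProjFormula.η₀, NatTrans.comp_app, Functor.associator_inv_app,
      Functor.whiskerRight_app, Functor.whiskerLeft_app]
    infer_instance
  exact (loc_rpush ι (DerivedCategory.Q.obj F)).of_iso
    ((asIso ((ProjFormula.η₀ ι).app F)).symm ≪≫ (asIso (DerivedCategory.Q.map η)).symm ≪≫
      ((tilde.functor (CommRingCat.of A)).mapDerivedCategoryFactors.app _).symm)

omit [PreservesFiniteLimits (tilde.functor (CommRingCat.of A))] in
theorem mem_punctured (l : List A) (x : PrimeSpectrum A) :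
    x ∈ LocCoh.puncturedOpen A (Ideal.span {a | a ∈ l}) ↔ ∃ a ∈ l, a ∉ x.asIdeal := by
  show x ∉ PrimeSpectrum.zeroLocus (Ideal.span {a | a ∈ l} : Set A) ↔ _
  rw [PrimeSpectrum.zeroLocus_span, PrimeSpectrum.mem_zeroLocus, Set.not_subset]
  rfl

/-- The extended Čech complex represents the sections with support. -/
theorem exists_cech_rep (M : ModuleCat.{u} A) (fs : List A) :
    ∃ g : (DCoh.tildeD (CommRingCat.of A)).obj (DRing.toD (DerCA.extCech M fs)) ⟶
        (DCoh.tildeD (CommRingCat.of A)).obj (Dual.inD A M),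
      IsZero ((rd (LocCoh.puncturedOpen A (Ideal.span {a | a ∈ fs})).ι).obj
        ((DCoh.tildeD (CommRingCat.of A)).obj (DRing.toD (DerCA.extCech M fs)))) ∧
      ∀ B, IsZero ((rd (LocCoh.puncturedOpen A (Ideal.span {a | a ∈ fs})).ι).obj B) →
        Function.Bijective fun t : B ⟶ (DCoh.tildeD (CommRingCat.of A)).obj
          (DRing.toD (DerCA.extCech M fs)) => t ≫ g := by
  induction fs with
  | nil =>
    let e := (DCoh.tildeD (CommRingCat.of A)).mapIso
      ((DerivedCategory.singleFunctorIsoCompQ (ModuleCat.{u} A) 0).app M).symm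
    refine ⟨e.hom, (isZero_rd_iff _).2 fun m x _ hx => ?_, fun B _ =>
      ⟨fun a b h => (cancel_mono e.hom).1 h, fun b => ⟨b ≫ e.inv, by simp⟩⟩⟩
    rw [Scheme.Opens.range_ι] at hx
    obtain ⟨a, ha, -⟩ := (mem_punctured [] x).1 hx
    exact absurd ha List.not_mem_nil
  | cons f fs ih =>
    obtain ⟨g, hz, hg⟩ := ih
    let V := LocCoh.puncturedOpen A (Ideal.span {a | a ∈ fs})
    let W := LocCoh.puncturedOpen A (Ideal.span {a | a ∈ f :: fs})
    let C := DerCA.extCech M fs
    let φ := DerCA.locCxUnit (Submonoid.powers f) C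
    let G := DCoh.tildeD (CommRingCat.of A)
    let T := G.mapTriangle.obj (DerivedCategory.Q.mapTriangle.obj (CochainComplex.mappingCocone.triangle φ))
    have hT : T ∈ distTriang _ := G.map_distinguished _ (cocone_distinguished φ)
    have hsub : ∀ x, x ∈ W ↔ x ∈ Df f ∨ x ∈ V := fun x => by
      rw [mem_punctured, mem_punctured]
      show _ ↔ f ∉ x.asIdeal ∨ _
      simp
    have hDW : Set.range (Df f).ι.base ⊆ Set.range W.ι.base := fun x hx => by
      rw [Scheme.Opens.range_ι] at hx ⊢
      exact (hsub x).2 (Or.inl hx)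
    have hVW : Set.range V.ι.base ⊆ Set.range W.ι.base := fun x hx => by
      rw [Scheme.Opens.range_ι] at hx ⊢
      exact (hsub x).2 (Or.inr hx)
    have hloc : Loc W.ι T.obj₃ := fun B hB t =>
      loc_locCx f C B (isZero_rd_of_subset W.ι (Df f).ι hDW hB) t
    haveI hiso : IsIso ((rd (Df f).ι).map T.mor₂) := isIso_rd_locUnit f C
    have hD : IsZero ((rd (Df f).ι).obj T.obj₁) :=
      (Triangle.isZero₁_iff_isIso₂ _ ((rd (Df f).ι).map_distinguished T hT)).2 hiso
    have hV₃ : IsZero ((rd V.ι).obj T.obj₃) := by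
      haveI := QCohD.hasRpush (Df f).ι
      have h := isZero_rd_rpush (Df f).ι V (isZero_rd_preimage (Df f).ι V (E := T.obj₂) hz)
      let ψ : T.obj₂ ⟶ T.obj₃ := T.mor₂
      haveI : IsIso ((Thomason.restrictRpushAdj (Df f).ι).unit.app T.obj₃) := by
        obtain ⟨E, q, r, hE⟩ := distinguished_cocone_triangle ((Thomason.restrictRpushAdj (Df f).ι).unit.app T.obj₃)
        have h₁ : IsZero ((rd (Df f).ι).obj E) :=
          (Triangle.isZero₃_iff_isIso₁ _ ((rd (Df f).ι).map_distinguished _ hE)).2
            (isIso_rd_unit (Df f).ι (Thomason.restrictRpushAdj (Df f).ι) T.obj₃)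
        have hrL : Loc (Df f).ι ((DCoh.Rpush (Df f).ι).obj ((rd (Df f).ι).obj T.obj₃)) := loc_rpush _ _
        obtain ⟨s, hs⟩ : ∃ s : E ⟶ (DCoh.Rpush (Df f).ι).obj ((rd (Df f).ι).obj T.obj₃), 𝟙 E = s ≫ q :=
          Triangle.coyoneda_exact₃ _ hE (𝟙 E) ((loc_locCx f C).shift 1 E h₁ _)
        refine (Triangle.isZero₃_iff_isIso₁ _ hE).1 ((IsZero.iff_id_eq_zero _).2 ?_)
        show 𝟙 E = 0
        rw [hs, hrL E h₁ s, zero_comp]
      haveI : IsIso ((DCoh.Rpush (Df f).ι).map ((rd (Df f).ι).map ψ)) := inferInstance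
      exact h.of_iso ((rd V.ι).mapIso (asIso ((Thomason.restrictRpushAdj (Df f).ι).unit.app T.obj₃) ≪≫
        (asIso ((DCoh.Rpush (Df f).ι).map ((rd (Df f).ι).map ψ))).symm))
    have hV : IsZero ((rd V.ι).obj T.obj₁) :=
      Triangle.isZero₁_of_isZero₂₃ _ ((rd V.ι).map_distinguished T hT) hz hV₃
    have hW : IsZero ((rd W.ι).obj T.obj₁) := (isZero_rd_iff _).2 fun m x hx hxW => by
      rw [Scheme.Opens.range_ι] at hxW
      rcases (hsub x).1 hxW with h | h
      · exact (isZero_rd_iff _).1 hD m hx (by rw [Scheme.Opens.range_ι]; exact h)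
      · exact (isZero_rd_iff _).1 hV m hx (by rw [Scheme.Opens.range_ι]; exact h)
    refine ⟨T.mor₁ ≫ g, hW, fun B hB => ?_⟩
    have h1 := bijective_comp_of_loc (g := T.mor₁) (p := T.mor₂) (w := T.mor₃) hT hloc hB
    have h2 := (hg B (isZero_rd_of_subset W.ι V.ι hVW hB)).comp h1
    convert h2 using 1
    funext t
    exact (Category.assoc _ _ _).symm

/-- `RΓ_Z` of `M~` is given by the extended Čech complex. -/
theorem nonempty_cech_iso (M : ModuleCat.{u} A) (fs : List A)
    [CxOX.HasRgammaZ (LocCoh.puncturedOpen A (Ideal.span {a | a ∈ fs})).ι] :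
    Nonempty ((DCoh.tildeD (CommRingCat.of A)).obj (DRing.toD (DerCA.extCech M fs)) ≅
      (CxOX.RgammaZ (LocCoh.puncturedOpen A (Ideal.span {a | a ∈ fs})).ι).obj
        ((DCoh.tildeD (CommRingCat.of A)).obj (Dual.inD A M))) := by
  obtain ⟨g, hz, hg⟩ := exists_cech_rep M fs
  let U := LocCoh.puncturedOpen A (Ideal.span {a | a ∈ fs})
  let K := (DCoh.tildeD (CommRingCat.of A)).obj (Dual.inD A M)
  obtain ⟨α, hα⟩ := exists_factor U.ι K hz g
  obtain ⟨β, hβ⟩ := (hg _ (isZero_rd_rgammaZ U.ι K)).2 ((CxOX.RgammaZToId U.ι).app K)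
  dsimp only at hβ
  refine ⟨⟨α, β, (hg _ hz).1 ?_, (bijective_comp U.ι K (isZero_rd_rgammaZ U.ι K)).1 ?_⟩⟩
  · simp only [Category.assoc, Category.id_comp]
    rw [hβ, hα]
  · simp only [Category.assoc]
    rw [hα, hβ]
    exact (Category.id_comp _).symm

end Groth.Agent.H16Derived.RGammaZ
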