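import Groth.Agent.H16Derived.RGammaZ.Push
import Groth.Agent.H16Derived.BaseChange.Square

/-!
# Supports and units of direct images along open immersions
-/

set_option autoImplicit false
set_option linter.style.haveILetI false
set_option backward.isDefEq.respectTransparency false

universe u

open CategoryTheory CategoryTheory.Limits CategoryTheory.Pretriangulated AlgebraicGeometry

attribute [local instance] HasDerivedCategory.standard

namespace Groth.Agent.H16Derived.RGammaZ

open Groth.Agent.H16Derived.KFlat Groth.Agent.H16Derived.KFlat.Stalk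

variable {U V X : Scheme.{u}} (j : U ⟶ X) [IsOpenImmersion j]

/-- Vanishing over a smaller open. -/
theorem isZero_rd_of_subset (i : V ⟶ X) [IsOpenImmersion i] (h : Set.range i.base ⊆ Set.range j.base)
    {E : DCoh.D X} (hE : IsZero ((rd j).obj E)) : IsZero ((rd i).obj E) :=
  (isZero_rd_iff E).2 fun m x hx hxi => (isZero_rd_iff E).1 hE m hx (h hxi)

/-- Vanishing on both parts of a covering. -/
theorem isZero_of_rd₂ (i : V ⟶ X) [IsOpenImmersion i] (h : ∀ x, x ∈ Set.range i.base ∨ x ∈ Set.range j.base)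
    {E : DCoh.D X} (hi : IsZero ((rd i).obj E)) (hj : IsZero ((rd j).obj E)) : IsZero E :=
  Thomason.isZero_of_suppIn_empty fun m x hx =>
    (h x).elim (fun hxi => (isZero_rd_iff E).1 hi m hx hxi) (fun hxj => (isZero_rd_iff E).1 hj m hx hxj)

/-- Supports in the language of the prelude. -/
theorem isSuppD_iff (E : DCoh.D X) : CxOX.IsSuppD j E ↔ IsZero ((rd j).obj E) :=
  (isZero_rd_iff E).symm

/-- Restriction commutes with preimages. -/
theorem isZero_rd_preimage (W : X.Opens) {E : DCoh.D X} (h : IsZero ((rd W.ι).obj E)) :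
    IsZero ((rd (j ⁻¹ᵁ W).ι).obj ((rd j).obj E)) := by
  refine IsZero.of_iso ?_ (rdComp (j ⁻¹ᵁ W).ι j _ rfl E).symm
  exact BaseChange.isZero_rd_of_factor (j ∣_ W) W.ι ((j ⁻¹ᵁ W).ι ≫ j) (morphismRestrict_ι j W) h

/-- The cone of the unit of `j^* ⊣ Rj_*`. -/
theorem isZero_rd_cone_unit [DCoh.HasRpush j] (adj : rd j ⊣ DCoh.Rpush j) (W : X.Opens) {A C : DCoh.D X}
    {p : (DCoh.Rpush j).obj ((rd j).obj A) ⟶ C} {w : C ⟶ A⟦(1 : ℤ)⟧}
    (hT : Triangle.mk (adj.unit.app A) p w ∈ distTriang (DCoh.D X)) (hA : IsZero ((rd W.ι).obj A)) :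
    IsZero ((rd j).obj C) ∧ IsZero ((rd W.ι).obj C) :=
  ⟨(Triangle.isZero₃_iff_isIso₁ _ ((rd j).map_distinguished _ hT)).2 (isIso_rd_unit j adj A),
    Triangle.isZero₃_of_isZero₁₂ _ ((rd W.ι).map_distinguished _ hT) hA
      (isZero_rd_rpush j W (isZero_rd_preimage j W hA))⟩

/-- Objects without sections supported outside `U` are local. -/
theorem loc_of_isZero [CxOX.HasRgammaZ j] {G : DCoh.D X} (h : IsZero ((CxOX.RgammaZ j).obj G)) :
    Loc j G := by
  obtain ⟨C, p, w, hT, hC⟩ := exists_triangle_loc j G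
  haveI : IsIso p := (Triangle.isZero₁_iff_isIso₂ _ hT).1 h
  exact hC.of_iso (asIso p).symm

/-- `RΓ_Z` vanishes on local objects. -/
theorem isZero_of_loc [CxOX.HasRgammaZ j] {G : DCoh.D X} (h : Loc j G) :
    IsZero ((CxOX.RgammaZ j).obj G) := by
  refine (IsZero.iff_id_eq_zero _).2 ((bijective_comp j G (isZero_rd_rgammaZ j G)).1 ?_)
  show 𝟙 _ ≫ (CxOX.RgammaZToId j).app G = 0 ≫ (CxOX.RgammaZToId j).app G
  rw [zero_comp]
  exact h _ (isZero_rd_rgammaZ j G) _

end Groth.Agent.H16Derived.RGammaZ
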