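import Groth.Agent.H16Derived.RGammaZ.Basic
import Groth.Agent.H16Derived.Thomason.Lift

/-!
# The universal property of the derived sections with support
-/

set_option autoImplicit false
set_option linter.style.haveILetI false
set_option backward.isDefEq.respectTransparency false

universe u

open CategoryTheory CategoryTheory.Limits CategoryTheory.Pretriangulated AlgebraicGeometry

attribute [local instance] HasDerivedCategory.standard

namespace Groth.Agent.H16Derived.RGammaZ

open Groth.Agent.H16Derived.KFlat Groth.Agent.H16Derived.KFlat.Stalk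

variable {U X : Scheme.{u}} {j : U ⟶ X} [IsOpenImmersion j]

/-- Maps from objects vanishing on `U` lift uniquely along a map with local cone. -/
theorem bijective_comp_of_loc {A K C : DCoh.D X} {g : A ⟶ K} {p : K ⟶ C} {w : C ⟶ A⟦(1 : ℤ)⟧}
    (hT : Triangle.mk g p w ∈ distTriang (DCoh.D X)) (hC : Loc j C) {B : DCoh.D X}
    (hB : IsZero ((rd j).obj B)) : Function.Bijective (fun t : B ⟶ A => t ≫ g) := by
  constructor
  · intro s t hst
    rw [← sub_eq_zero]
    obtain ⟨u, hu⟩ := Triangle.coyoneda_exact₂ _ (inv_rot_of_distTriang _ hT) (s - t)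
      (by
        show (s - t) ≫ g = 0
        rw [Preadditive.sub_comp, sub_eq_zero]
        exact hst)
    rw [hu, show u = 0 from hC.shift (-1) B hB u, zero_comp]
  · intro f
    obtain ⟨t, ht⟩ := Triangle.coyoneda_exact₂ _ hT f (hC B hB _)
    exact ⟨t, ht.symm⟩

variable (j) [CxOX.HasRgammaZ j]

theorem isZero_rd_rgammaZ (K : DCoh.D X) : IsZero ((rd j).obj ((CxOX.RgammaZ j).obj K)) := by
  haveI := QCohD.hasRpush j
  obtain ⟨C, p, w, -, hz, -⟩ := exists_triangle j K
  exact hz

/-- The triangle with local cone. -/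
theorem exists_triangle_loc (K : DCoh.D X) :
    ∃ (C : DCoh.D X) (p : K ⟶ C) (w : C ⟶ ((CxOX.RgammaZ j).obj K)⟦(1 : ℤ)⟧),
      Triangle.mk ((CxOX.RgammaZToId j).app K) p w ∈ distTriang (DCoh.D X) ∧ Loc j C := by
  haveI := QCohD.hasRpush j
  obtain ⟨C, p, w, hT, -, G, ⟨e⟩⟩ := exists_triangle j K
  exact ⟨C, p, w, hT, (loc_rpush j G).of_iso e.symm⟩

/-- Maps from objects vanishing on `U` factor uniquely through `RΓ_Z`. -/
theorem bijective_comp (K : DCoh.D X) {B : DCoh.D X} (hB : IsZero ((rd j).obj B)) :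
    Function.Bijective (fun t : B ⟶ (CxOX.RgammaZ j).obj K => t ≫ (CxOX.RgammaZToId j).app K) := by
  obtain ⟨C, p, w, hT, hC⟩ := exists_triangle_loc j K
  exact bijective_comp_of_loc hT hC hB

theorem exists_factor (K : DCoh.D X) {B : DCoh.D X} (hB : IsZero ((rd j).obj B)) (f : B ⟶ K) :
    ∃ α : B ⟶ (CxOX.RgammaZ j).obj K, α ≫ (CxOX.RgammaZToId j).app K = f :=
  (bijective_comp j K hB).2 f

variable {j}

/-- Recognition of `RΓ_Z`. -/
theorem isIso_of_loc {K A C : DCoh.D X} (α : A ⟶ (CxOX.RgammaZ j).obj K) (hA : IsZero ((rd j).obj A))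
    {g : A ⟶ K} (hg : α ≫ (CxOX.RgammaZToId j).app K = g) {p : K ⟶ C} {w : C ⟶ A⟦(1 : ℤ)⟧}
    (hT : Triangle.mk g p w ∈ distTriang (DCoh.D X)) (hC : Loc j C) : IsIso α := by
  have h := bijective_comp_of_loc hT hC (isZero_rd_rgammaZ j K)
  obtain ⟨β, hβ⟩ := h.2 ((CxOX.RgammaZToId j).app K)
  dsimp only at hβ
  refine ⟨β, (bijective_comp_of_loc hT hC hA).1 ?_, (bijective_comp j K (isZero_rd_rgammaZ j K)).1 ?_⟩
  · simp only [Category.assoc, Category.id_comp]
    rw [hβ, hg]
  · simp only [Category.assoc, Category.id_comp]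
    rw [hg, hβ]

omit [CxOX.HasRgammaZ j] in
/-- Support in the complement of the range. -/
theorem isZero_rd_iff (E : DCoh.D X) :
    IsZero ((rd j).obj E) ↔ Thomason.SuppIn (Set.range j.base)ᶜ E := by
  rw [show (Set.range j.base)ᶜ = ((j.opensRange : Set X))ᶜ from rfl, Thomason.suppIn_compl_iff]
  constructor
  · intro h
    exact ((rd j.isoOpensRange.inv).map_isZero h).of_iso
      (rdComp j.isoOpensRange.inv j _ j.isoOpensRange_inv_comp E)
  · intro h
    exact ((rd j.isoOpensRange.hom).map_isZero h).of_iso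
      (rdComp j.isoOpensRange.hom j.opensRange.ι j j.isoOpensRange_hom_ι E)

/-- Quasi-coherence of `RΓ_Z`. -/
theorem isQCohD_rgammaZ [QuasiCompact j] {K : DCoh.D X} (hK : DCoh.IsQCohD K) :
    DCoh.IsQCohD ((CxOX.RgammaZ j).obj K) := by
  haveI := QCohD.hasRpush j
  obtain ⟨C, p, w, hT, hz, G, ⟨e⟩⟩ := exists_triangle j K
  have hε : IsIso ((rd j).map p) :=
    (Triangle.isZero₁_iff_isIso₂ _ ((rd j).map_distinguished _ hT)).1 hz
  haveI := Thomason.isIso_restrictRpushAdj_counit j
  let eG : (rd j).obj K ≅ G :=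
    @asIso _ _ _ _ ((rd j).map p) hε ≪≫ (rd j).mapIso e ≪≫
      (asIso (Thomason.restrictRpushAdj j).counit).app G
  have hC : DCoh.IsQCohD C := QCohD.isQCohD_iso e.symm
    (QCohD.isQCohD_rpush j (QCohD.isQCohD_iso eG (QCohD.isQCohD_rd j hK)))
  exact QCohD.AffineUnit.isQCohD_obj₃ (inv_rot_of_distTriang _ (inv_rot_of_distTriang _ hT))
    (QCohD.HomVanish.isQCohD_shift hK (-1)) (QCohD.HomVanish.isQCohD_shift hC (-1))

end Groth.Agent.H16Derived.RGammaZ
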