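import Groth.Prelude.Def_DerCA
import Groth.Prelude.Def_DCoh2
import Groth.Prelude.Def_Wider
import Groth.Agent.H16Derived.RGammaZ.Univ
import Groth.Agent.H16Derived.RGammaZ.Supp
import Groth.Agent.H16Derived.QCohD.AffineUnit
import Groth.Agent.H16Derived.QCohD.Equiv

/-!
# Localisation at `f` on quasi-coherent complexes over an affine scheme
-/

set_option autoImplicit false
set_option linter.style.haveILetI false
set_option backward.isDefEq.respectTransparency false

universe u

open CategoryTheory CategoryTheory.Limits AlgebraicGeometry Opposite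

attribute [local instance] HasDerivedCategory.standard

namespace Groth.Agent.H16Derived.RGammaZ

open Groth.Agent.H16Derived.KFlat Groth.Agent.H16Derived.KFlat.Stalk

theorem away_gen (R' : CommRingCat.{u}) (N : ModuleCat.{u} R') (g : R') :
    IsLocalizedModule.Away g (tilde.toOpen N (PrimeSpectrum.basicOpen g)).hom :=
  inferInstance

theorem bijective_toOpen_top (R' : CommRingCat.{u}) (N : ModuleCat.{u} R') :
    Function.Bijective (tilde.toOpen N ⊤) :=
  (ConcreteCategory.isIso_iff_bijective _).1 inferInstance

variable {A : Type u} [CommRing A] (f : A)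

/-- `D(f)`. -/
noncomputable abbrev Df : (Spec (CommRingCat.of A)).Opens := PrimeSpectrum.basicOpen f

theorem isAffineOpen_Df : IsAffineOpen (Df f) :=
  IsAffineOpen.Spec_basicOpen (R := CommRingCat.of A) f

theorem isAffineHom_ι_Df : IsAffineHom (Df f).ι :=
  haveI : IsAffine (Df f : Scheme.{u}) := isAffineOpen_Df f
  inferInstance

/-- For a localised module the global sections are the sections over `D(f)`. -/
theorem bijective_res (M : ModuleCat.{u} A) :
    Function.Bijective ((tilde ((DerCA.locFunctor (Submonoid.powers f)).obj M) :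
      (Spec (CommRingCat.of A)).Modules).presheaf.map
        (homOfLE (le_top : Df f ≤ ⊤)).op) := by
  let P := (DerCA.locFunctor (Submonoid.powers f)).obj M
  let Q := (tilde P : (Spec (CommRingCat.of A)).Modules)
  have hu : ∀ s : Submonoid.powers f, Function.Bijective fun x : P => (s : A) • x := fun s => by
    have h := IsLocalizedModule.map_units (LocalizedModule.mkLinearMap (Submonoid.powers f) M) s
    rw [Module.End.isUnit_iff] at h
    exact h
  let g := (tilde.toOpen (R := CommRingCat.of A) P (Df f)).hom
  haveI : IsLocalizedModule.Away f g := away_gen (CommRingCat.of A) P f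
  have hg : Function.Bijective g := by
    refine ⟨fun x y h => ?_, fun z => ?_⟩
    · obtain ⟨c, hc⟩ := IsLocalizedModule.exists_of_eq (S := Submonoid.powers f) h
      exact (hu c).1 hc
    · obtain ⟨⟨m, s⟩, hs⟩ := IsLocalizedModule.surj (Submonoid.powers f) g z
      obtain ⟨m', hm'⟩ := (hu s).2 m
      dsimp only at hm' hs
      refine ⟨m', ?_⟩
      have hu' := IsLocalizedModule.map_units g s
      rw [Module.End.isUnit_iff] at hu'
      apply hu'.1
      show (s : A) • g m' = (s : A) • z
      rw [← map_smul, hm']
      exact hs.symm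
  have htop : Function.Bijective (tilde.toOpen (R := CommRingCat.of A) P ⊤) :=
    bijective_toOpen_top (CommRingCat.of A) P
  exact (Function.Bijective.of_comp_iff _ htop).1 hg

/-- `tilde M_f` is the direct image of its restriction to `D(f)`. -/
theorem isIso_unit_loc (M : ModuleCat.{u} A) :
    IsIso ((Scheme.Modules.restrictAdjunction (Df f).ι).unit.app
      (tilde ((DerCA.locFunctor (Submonoid.powers f)).obj M))) := by
  haveI := isAffineHom_ι_Df f
  let N := (tilde ((DerCA.locFunctor (Submonoid.powers f)).obj M) : (Spec (CommRingCat.of A)).Modules)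
  haveI : N.IsQuasicoherent := inferInstance
  haveI : ((Scheme.Modules.restrictFunctor (Df f).ι).obj N).IsQuasicoherent :=
    Scheme.Modules.isQuasicoherent_restrictFunctor (Df f).ι N
  refine QCohD.isIso_of_bijective_app_top (CommRingCat.of A) (M := N) (inferInstanceAs N.IsQuasicoherent)
    (H10Coh.isQuasicoherent_pushforward (Df f).ι _) _ ?_
  have e : (Df f).ι ''ᵁ ((Df f).ι ⁻¹ᵁ (⊤ : (Spec (CommRingCat.of A)).Opens)) = Df f := by
    rw [Scheme.Hom.preimage_top, Scheme.Opens.ι_image_top]
  rw [Scheme.Modules.restrictAdjunction_unit_app_app]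
  have h2 : ∀ (O : (Spec (CommRingCat.of A)).Opens) (i : O ⟶ ⊤), O = Df f →
      Function.Bijective (N.presheaf.map i.op) := by
    rintro O i rfl
    rw [Subsingleton.elim i (homOfLE le_top)]
    exact bijective_res f M
  exact h2 _ _ e

/-- Localisation is an isomorphism on `D(f)`. -/
theorem isIso_restrict_locUnit (M : ModuleCat.{u} A) :
    IsIso ((Scheme.Modules.restrictFunctor (Df f).ι).map
      ((tilde.functor (CommRingCat.of A)).map ((DerCA.locUnit (Submonoid.powers f)).app M))) := by
  haveI := isAffineHom_ι_Df f
  let N := (tilde M : (Spec (CommRingCat.of A)).Modules)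
  let N' := (tilde ((DerCA.locFunctor (Submonoid.powers f)).obj M) : (Spec (CommRingCat.of A)).Modules)
  let φ : N ⟶ N' := (tilde.functor (CommRingCat.of A)).map ((DerCA.locUnit (Submonoid.powers f)).app M)
  haveI : N.IsQuasicoherent := inferInstance
  haveI : N'.IsQuasicoherent := inferInstance
  haveI : ((Scheme.Modules.restrictFunctor (Df f).ι).obj N).IsQuasicoherent :=
    Scheme.Modules.isQuasicoherent_restrictFunctor (Df f).ι N
  haveI : ((Scheme.Modules.restrictFunctor (Df f).ι).obj N').IsQuasicoherent :=
    Scheme.Modules.isQuasicoherent_restrictFunctor (Df f).ι N'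
  have hb : Function.Bijective (φ.app (Df f)) := by
    let gM := (tilde.toOpen M (Df f)).hom
    let gP := (tilde.toOpen ((DerCA.locFunctor (Submonoid.powers f)).obj M) (Df f)).hom
    haveI : IsLocalizedModule.Away f gM := away_gen (CommRingCat.of A) M f
    let u := LocalizedModule.mkLinearMap (Submonoid.powers f) M
    have hbij : Function.Bijective gP := by
      have h := bijective_res f M
      exact h.comp (bijective_toOpen_top (CommRingCat.of A) ((DerCA.locFunctor (Submonoid.powers f)).obj M))
    haveI : IsLocalizedModule (Submonoid.powers f) (gP ∘ₗ u) :=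
      IsLocalizedModule.of_linearEquiv (Submonoid.powers f) u (LinearEquiv.ofBijective gP hbij)
    let ψ := ((modulesSpecToSheaf.map (tilde.map
      ((DerCA.locUnit (Submonoid.powers f)).app M))).hom.app (op (Df f))).hom
    have hψ : ψ = (IsLocalizedModule.linearEquiv (Submonoid.powers f) gM (gP ∘ₗ u)).toLinearMap := by
      apply IsLocalizedModule.linearMap_ext (Submonoid.powers f) gM (gP ∘ₗ u)
      refine LinearMap.ext fun x => ?_
      show ψ (gM x) = IsLocalizedModule.linearEquiv (Submonoid.powers f) gM (gP ∘ₗ u) (gM x)
      rw [IsLocalizedModule.linearEquiv_apply]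
      exact ConcreteCategory.congr_hom
        (tilde.toOpen_map_app (R := CommRingCat.of A) ((DerCA.locUnit (Submonoid.powers f)).app M) (Df f)) x
    have : Function.Bijective ψ := by rw [hψ]; exact LinearEquiv.bijective _
    exact this
  let G := Scheme.Modules.restrictFunctor (Df f).ι ⋙ Scheme.Modules.pushforward (Df f).ι
  haveI : IsIso (G.map φ) := by
    refine QCohD.isIso_of_bijective_app_top (CommRingCat.of A)
      (H10Coh.isQuasicoherent_pushforward (Df f).ι _) (H10Coh.isQuasicoherent_pushforward (Df f).ι _) _ ?_
    show Function.Bijective (φ.app ((Df f).ι ''ᵁ ((Df f).ι ⁻¹ᵁ ⊤)))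
    rw [Scheme.Hom.preimage_top, Scheme.Opens.ι_image_top]
    exact hb
  let adj := Scheme.Modules.restrictAdjunction (Df f).ι
  haveI := adj.fullyFaithfulROfIsIsoCounit.full
  haveI := adj.fullyFaithfulROfIsIsoCounit.faithful
  haveI : IsIso ((Scheme.Modules.pushforward (Df f).ι).map
    ((Scheme.Modules.restrictFunctor (Df f).ι).map φ)) := ‹IsIso (G.map φ)›
  exact isIso_of_reflects_iso ((Scheme.Modules.restrictFunctor (Df f).ι).map φ) (Scheme.Modules.pushforward (Df f).ι)

end Groth.Agent.H16Derived.RGammaZ
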