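import Groth.Agent.H15Site.LocCohQCoh
import Groth.Agent.H10Coh.Bounded
import Groth.Agent.H17.FPExt.Colimit

/-!
# Local cohomology sheaves vanish above the number of equations
-/

set_option autoImplicit false
set_option linter.style.haveILetI false
set_option backward.isDefEq.respectTransparency false

universe u

open CategoryTheory CategoryTheory.Limits AlgebraicGeometry Opposite TopologicalSpace

namespace Groth.Agent.H16Derived.RGammaZ

open Groth.Agent.H10Coh

variable {X : Scheme.{u}}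

/-- Vanishing on a union of `t` members of an intersection-closed class of affine opens. -/
theorem subsingleton_of_cover (P : X.Opens → Prop) (hP : ∀ V, P V → IsAffineOpen V)
    (hd : ∀ V W, P V → P W → P (V ⊓ W)) (M : X.Modules) [M.IsQuasicoherent] (t : ℕ) :
    ∀ (U : Fin t → X.Opens), (∀ i, P (U i)) → ∀ n, t ≤ n → Subsingleton (HnM M n (⨆ i, U i)) := by
  induction t with
  | zero =>
    intro U _ n _
    rw [iSup_of_empty]
    exact subsingleton_HnM_bot M n
  | succ t ih =>
    intro U hU n hn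
    obtain ⟨m, rfl⟩ := Nat.exists_eq_add_of_le (show 1 ≤ n by omega)
    have hm : t ≤ m := by omega
    have hsup : ⨆ i, U i = (⨆ i, U (Fin.castSucc i)) ⊔ U (Fin.last t) := by
      refine le_antisymm (iSup_le fun i => ?_) (sup_le (iSup_le fun i => le_iSup U _) (le_iSup U _))
      exact Fin.lastCases le_sup_right (fun i => (le_iSup (fun i => U (Fin.castSucc i)) i).trans le_sup_left) i
    rw [hsup, add_comm 1 m]
    refine subsingleton_sup (MRes.inj M) m _ _ (ih _ (fun i => hU _) _ (by omega))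
      (subsingleton_HnM_of_isAffineOpen M (hP _ (hU _)) m) ?_
    rw [iSup_inf_eq]
    exact ih _ (fun i => hd _ _ (hU _) (hU _)) m hm

variable (U : X.Opens) (c : ℕ)
  (hT : ∀ x : X, ∃ (V : X.Opens) (fs : Finset Γ(X, V)), x ∈ V ∧ fs.card ≤ c ∧
    X.zeroLocus (U := V) (↑fs : Set Γ(X, V)) ∩ (V : Set ↥X) = (U : Set ↥X)ᶜ ∩ (V : Set ↥X))

include hT in
/-- `R^q j_*` vanishes for `q ≥ c` and quasi-coherent modules. -/
theorem isZero_rpush_of_cut [HasInjectiveResolutions (U : Scheme.{u}).Modules] [QuasiCompact U.ι]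
    (M : (U : Scheme.{u}).Modules) [M.IsQuasicoherent] (q : ℕ) (hq : c ≤ q) :
    IsZero ((Coh.Rpush U.ι q).obj M) := by
  classical
  choose V fs hxV hcard hz using hT
  cases q with
  | zero =>
    have hU : ∀ y : (U : Scheme.{u}), False := fun y => by
      have h0 : fs y.1 = ∅ := Finset.card_eq_zero.1 (Nat.le_zero.1 ((hcard y.1).trans hq))
      have h : y.1 ∈ (U : Set X)ᶜ ∩ (V y.1 : Set X) := by
        rw [← hz y.1]
        refine ⟨?_, hxV y.1⟩
        rw [Scheme.mem_zeroLocus_iff]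
        intro f hf
        rw [h0] at hf
        exact absurd hf (by simp)
      exact h.1 y.2
    haveI : (Scheme.Modules.pushforward U.ι).IsRightAdjoint :=
      (Scheme.Modules.pullbackPushforwardAdjunction U.ι).isRightAdjoint
    haveI : PreservesFiniteLimits (Scheme.Modules.pushforward U.ι) := inferInstance
    exact (Functor.map_isZero (Scheme.Modules.pushforward U.ι)
      (H17.FPExt.isZero_of_stalk M fun y => (hU y).elim)).of_iso
      ((Scheme.Modules.pushforward U.ι).rightDerivedZeroIsoSelf.app M)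
  | succ n =>
    have key : IsZero ((Coh.RpushAb U.ι (n + 1)).obj (Coh.toAb M)) := by
      refine isZero_rpush_of_vanishing U.ι.base (Coh.toAb M) n
        {W : X.Opens | IsAffineOpen W ∧ ∃ x, W ≤ V x} ?_ ?_
      · rw [Opens.isBasis_iff_nbhd]
        intro O x hx
        obtain ⟨_, ⟨W, hW, rfl⟩, hxW, hle⟩ := X.isBasis_affineOpens.exists_subset_of_mem_open
          (show x ∈ (O ⊓ V x : X.Opens) from ⟨hx, hxV x⟩) (O ⊓ V x).2
        exact ⟨W, ⟨hW, x, fun y hy => (hle hy).2⟩, hxW, fun y hy => (hle hy).1⟩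
      · rintro W ⟨hW, x, hWx⟩
        let r : Γ(X, V x) → Γ(X, W) := (X.presheaf.map (homOfLE hWx).op).hom
        let e := (fs x).equivFin
        let P : (U : Scheme.{u}).Opens → Prop := fun O =>
          ∃ g : Γ(X, W), X.basicOpen g ≤ U ∧ O = U.ι ⁻¹ᵁ X.basicOpen g
        have hP : ∀ O, P O → IsAffineOpen O := by
          rintro O ⟨g, hg, rfl⟩
          rw [← Scheme.Hom.isAffineOpen_iff_of_isOpenImmersion U.ι,
            Scheme.Hom.image_preimage_eq_opensRange_inf, Scheme.Opens.opensRange_ι, inf_eq_right.2 hg]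
          exact hW.basicOpen g
        have hd : ∀ O O', P O → P O' → P (O ⊓ O') := by
          rintro O O' ⟨g, hg, rfl⟩ ⟨g', -, rfl⟩
          refine ⟨g * g', ?_, ?_⟩
          · rw [Scheme.basicOpen_mul]
            exact inf_le_left.trans hg
          · rw [Scheme.basicOpen_mul]
            rfl
        have hbr : ∀ f : Γ(X, V x), X.basicOpen (r f) = W ⊓ X.basicOpen f := fun f =>
          Scheme.basicOpen_res X f (homOfLE hWx).op
        have hDU : ∀ f ∈ fs x, X.basicOpen (r f) ≤ U := fun f hf y hy => by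
          rw [hbr] at hy
          by_contra hyU
          have h : y ∈ X.zeroLocus (U := V x) (↑(fs x) : Set Γ(X, V x)) ∩ (V x : Set X) := by
            rw [hz x]
            exact ⟨hyU, hWx hy.1⟩
          exact (Scheme.mem_zeroLocus_iff _ _ _).1 h.1 f hf hy.2
        have hcov : U.ι ⁻¹ᵁ W = ⨆ k, U.ι ⁻¹ᵁ X.basicOpen (r (e.symm k).1) := by
          refine le_antisymm (fun y hy => ?_) (iSup_le fun k y hy => ?_)
          · have hyW : y.1 ∈ W := hy
            have hn : y.1 ∉ X.zeroLocus (U := V x) (↑(fs x) : Set Γ(X, V x)) := fun h =>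
              (hz x ▸ (show y.1 ∈ X.zeroLocus (U := V x) (↑(fs x) : Set Γ(X, V x)) ∩ (V x : Set X) from
                ⟨h, hWx hyW⟩) : y.1 ∈ (U : Set X)ᶜ ∩ (V x : Set X)).1 y.2
            rw [Scheme.mem_zeroLocus_iff] at hn
            push Not at hn
            obtain ⟨f, hf, hyf⟩ := hn
            refine Opens.mem_iSup.2 ⟨e ⟨f, hf⟩, ?_⟩
            show y.1 ∈ X.basicOpen (r (e.symm (e ⟨f, hf⟩)).1)
            rw [Equiv.symm_apply_apply, hbr]
            exact ⟨hyW, hyf⟩
          · exact X.basicOpen_le (r (e.symm k).1) hy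
        have h := subsingleton_of_cover P hP hd M _ (fun k => U.ι ⁻¹ᵁ X.basicOpen (r (e.symm k).1))
          (fun k => ⟨_, hDU _ (e.symm k).2, rfl⟩) (n + 1) ((hcard x).trans hq)
        rw [← hcov] at h
        exact h
    obtain ⟨e₁⟩ := nonempty_rpush_iso_hdir U.ι M n
    obtain ⟨e₂⟩ := nonempty_rpushAb_iso_hdir U.ι M n
    refine IsZero.of_iso ?_ e₁
    refine (IsZero.iff_id_eq_zero _).2 ((shF X).map_injective ?_)
    exact (key.of_iso e₂).eq_of_src _ _

include hT in
/-- Local cohomology sheaves vanish above `c`. -/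
theorem isZero_rightDerived_gammaZ [HasInjectiveResolutions X.Modules] [QuasiCompact U.ι]
    (F : X.Modules) (hF : Coh.IsQCoh F) (i : ℕ) (hi : c < i) :
    IsZero (((DCoh.gammaZ U.ι).rightDerived i).obj F) := by
  haveI : F.IsQuasicoherent := hF
  let R := injectiveResolution F
  obtain ⟨q, rfl⟩ := Nat.exists_eq_succ_of_ne_zero (show i ≠ 0 by omega)
  have hS := H15Site.LocCohQCoh.seq_shortExact U.ι R
  suffices h : IsZero ((H15Site.LocCohQCoh.seq U.ι R).X₁.homology (q + 1)) from
    h.of_iso (R.isoRightDerivedObj (DCoh.gammaZ U.ι) (q + 1))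
  haveI : ((Scheme.Modules.restrictFunctor U.ι).obj F).IsQuasicoherent :=
    Scheme.Modules.isQuasicoherent_restrictFunctor U.ι F
  haveI : HasInjectiveResolutions (U : Scheme.{u}).Modules :=
    haveI := enoughInjMod (U : Scheme.{u}); inferInstance
  let R' := H15Site.LocCohQCoh.mapResolution (Scheme.Modules.restrictFunctor U.ι) R
  have h₃ : IsZero ((H15Site.LocCohQCoh.seq U.ι R).X₃.homology q) :=
    (isZero_rpush_of_cut U c hT ((Scheme.Modules.restrictFunctor U.ι).obj F) q (by omega)).of_iso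
      (R'.isoRightDerivedObj (Scheme.Modules.pushforward U.ι) q).symm
  exact ShortComplex.Exact.isZero_X₂ (hS.homology_exact₁ q (q + 1) (by simp))
    (h₃.eq_of_src _ _) ((H15Site.LocCohQCoh.isZero_homology_X₂ U.ι R q).eq_of_tgt _ _)

include hT in
theorem quasiCompact_ι_of_cut : QuasiCompact U.ι := by
  classical
  choose V fs hxV hcard hz using hT
  have hloc : ∀ x : X, ∃ W : X.Opens, IsAffineOpen W ∧ x ∈ W ∧ W ≤ V x := fun x => by
    obtain ⟨_, ⟨W, hW, rfl⟩, hxW, hle⟩ := X.isBasis_affineOpens.exists_subset_of_mem_open (hxV x) (V x).2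
    exact ⟨W, hW, hxW, hle⟩
  choose W hW hxW hWV using hloc
  have hcov : ⨆ x, W x = ⊤ := eq_top_iff.2 fun x _ => Opens.mem_iSup.2 ⟨x, hxW x⟩
  refine (HasAffineProperty.iff_of_iSup_eq_top (P := @QuasiCompact) (fun x => ⟨W x, hW x⟩) hcov).2 fun x => ?_
  show CompactSpace ↥(U.ι ⁻¹ᵁ W x)
  refine isCompact_iff_compactSpace.1 (U.ι.isOpenEmbedding.isEmbedding.isCompact_iff.2 ?_)
  have e : U.ι.base '' (U.ι ⁻¹ᵁ W x : Set (U : Scheme.{u})) =
      ⋃ f ∈ fs x, ((X.basicOpen ((X.presheaf.map (homOfLE (hWV x)).op).hom f) : X.Opens) : Set X) := by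
    ext y
    simp only [Scheme.basicOpen_res, Set.mem_iUnion]
    constructor
    · rintro ⟨z, hzW, rfl⟩
      have hn : z.1 ∉ X.zeroLocus (U := V x) (↑(fs x) : Set Γ(X, V x)) := fun h =>
        (hz x ▸ (show z.1 ∈ X.zeroLocus (U := V x) (↑(fs x) : Set Γ(X, V x)) ∩ (V x : Set X) from
          ⟨h, hWV x hzW⟩) : z.1 ∈ (U : Set X)ᶜ ∩ (V x : Set X)).1 z.2
      rw [Scheme.mem_zeroLocus_iff] at hn
      push Not at hn
      obtain ⟨f, hf, hzf⟩ := hn
      exact ⟨f, hf, hzW, hzf⟩
    · rintro ⟨f, hf, hyW, hyf⟩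
      have hyU : y ∈ U := by
        by_contra hyU
        have h : y ∈ X.zeroLocus (U := V x) (↑(fs x) : Set Γ(X, V x)) ∩ (V x : Set X) := by
          rw [hz x]
          exact ⟨hyU, hWV x hyW⟩
        exact (Scheme.mem_zeroLocus_iff _ _ _).1 h.1 f hf hyf
      exact ⟨⟨y, hyU⟩, hyW, rfl⟩
  rw [e]
  exact (fs x).finite_toSet.isCompact_biUnion fun f _ => ((hW x).basicOpen _).isCompact

end Groth.Agent.H16Derived.RGammaZ
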