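import Groth.Agent.H16Derived.RGammaZ.Supp
import Groth.Agent.H16Derived.RGammaZ.Push
import Groth.Agent.H16Derived.KFlat.PerfCoh

/-!
# Sections with support and restriction to an open
-/

set_option autoImplicit false
set_option linter.style.haveILetI false
set_option backward.isDefEq.respectTransparency false

universe u

open CategoryTheory CategoryTheory.Limits CategoryTheory.Pretriangulated AlgebraicGeometry

attribute [local instance] HasDerivedCategory.standard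

namespace Groth.Agent.H16Derived.RGammaZ

open Groth.Agent.H16Derived.KFlat Groth.Agent.H16Derived.KFlat.Stalk

variable {U X X' : Scheme.{u}}

/-- Locality only depends on the range. -/
theorem Loc.of_range {U' : Scheme.{u}} (j : U ⟶ X) [IsOpenImmersion j] (i : U' ⟶ X) [IsOpenImmersion i]
    (h : Set.range j.base ⊆ Set.range i.base) {C : DCoh.D X} (hC : Loc j C) : Loc i C :=
  fun B hB f => hC B (isZero_rd_of_subset i j h hB) f

/-- Restrictions of direct images from `U` are local on every open. -/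
theorem loc_rd_rpush (g : X' ⟶ X) [IsOpenImmersion g] (W : X.Opens) [DCoh.HasRpush W.ι]
    (G : DCoh.D (W : Scheme.{u})) :
    Loc (g ⁻¹ᵁ W).ι ((rd g).obj ((DCoh.Rpush W.ι).obj G)) := by
  let V := g.opensRange
  let e : X' ⟶ (V : Scheme.{u}) := g.isoOpensRange.hom
  haveI := QCohD.hasRpush (W.ι ∣_ V)
  haveI := QCohD.hasRpush e
  obtain ⟨α⟩ := nonempty_restrictD_rpush_iso W.ι V
  let C' := (DCoh.Rpush (W.ι ∣_ V)).obj ((rd (W.ι ⁻¹ᵁ V).ι).obj G)
  have hr : Set.range (W.ι ∣_ V).base ⊆ Set.range (V.ι ⁻¹ᵁ W).ι.base := by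
    rintro _ ⟨y, rfl⟩
    rw [Scheme.Opens.range_ι]
    show V.ι.base ((W.ι ∣_ V).base y) ∈ (W : Set X)
    rw [← Scheme.Hom.comp_apply, morphismRestrict_ι, Scheme.Hom.comp_apply]
    exact ((W.ι ⁻¹ᵁ V).ι.base y).2
  have hC' : Loc (V.ι ⁻¹ᵁ W).ι C' := (loc_rpush (W.ι ∣_ V) _).of_range _ _ hr
  let adj := Thomason.restrictRpushAdj e
  haveI : IsIso (adj.unit.app C') := by
    obtain ⟨E, q, r, hE⟩ := distinguished_cocone_triangle (adj.unit.app C')
    have h₁ : IsZero ((rd e).obj E) :=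
      (Triangle.isZero₃_iff_isIso₁ _ ((rd e).map_distinguished _ hE)).2 (isIso_rd_unit e adj C')
    refine (Triangle.isZero₃_iff_isIso₁ _ hE).1 (isZero_of_rd₂ e e (fun x => Or.inl ?_) h₁ h₁)
    exact ⟨g.isoOpensRange.inv.base x, by
      show e.base (g.isoOpensRange.inv.base x) = x
      rw [← Scheme.Hom.comp_apply, Iso.inv_hom_id]; rfl⟩
  have hcomp : e ⁻¹ᵁ (V.ι ⁻¹ᵁ W) = g ⁻¹ᵁ W := by
    rw [← Scheme.Hom.comp_preimage, Scheme.Hom.isoOpensRange_hom_ι]
  have key : Loc (g ⁻¹ᵁ W).ι ((rd e).obj C') := fun B hB f => by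
    haveI := isIso_counit e adj
    haveI := adj.fullyFaithfulROfIsIsoCounit.faithful
    refine (DCoh.Rpush e).map_injective ?_
    haveI : (DCoh.Rpush e).Additive := adj.right_adjoint_additive
    rw [Functor.map_zero, ← cancel_mono (asIso (adj.unit.app C')).inv, zero_comp]
    exact hC' _ (isZero_rd_rpush e (V.ι ⁻¹ᵁ W) (by rw [hcomp]; exact hB)) _
  exact key.of_iso ((rd e).mapIso (α.app G).symm ≪≫
    (rdComp e V.ι g g.isoOpensRange_hom_ι ((DCoh.Rpush W.ι).obj G)).symm)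

/-- `RΓ_Z` commutes with restriction to an open. -/
theorem nonempty_rd_rgammaZ (g : X' ⟶ X) [IsOpenImmersion g] (W : X.Opens) [CxOX.HasRgammaZ W.ι]
    [CxOX.HasRgammaZ (g ⁻¹ᵁ W).ι] (K : DCoh.D X) :
    Nonempty ((rd g).obj ((CxOX.RgammaZ W.ι).obj K) ≅
      (CxOX.RgammaZ (g ⁻¹ᵁ W).ι).obj ((rd g).obj K)) := by
  haveI := QCohD.hasRpush W.ι
  obtain ⟨C, p, w, hT, hz, G, ⟨eC⟩⟩ := exists_triangle W.ι K
  have hT' := (rd g).map_distinguished _ hT
  have hA : IsZero ((rd (g ⁻¹ᵁ W).ι).obj ((rd g).obj ((CxOX.RgammaZ W.ι).obj K))) :=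
    isZero_rd_preimage g W hz
  obtain ⟨α, hα⟩ := exists_factor (g ⁻¹ᵁ W).ι ((rd g).obj K) hA
    ((rd g).map ((CxOX.RgammaZToId W.ι).app K))
  haveI : IsIso α := isIso_of_loc α hA hα hT' ((loc_rd_rpush g W G).of_iso ((rd g).mapIso eC.symm))
  exact ⟨asIso α⟩

end Groth.Agent.H16Derived.RGammaZ
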