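import Groth.Agent.H16Derived.RGammaZ.SectHom
import Groth.Agent.H16Derived.RGammaZ.Restrict
import Groth.Agent.H16Derived.FMKDual.ExtVanish
import Groth.Agent.H16Derived.FMKDual.GVAmple
import Groth.Agent.H16Derived.FMKWit.CMExact
import Groth.Agent.H17.CohSub
import Groth.Agent.H4RSH.CurveGen
import Groth.Agent.H06EGA12.Transport

/-!
# Local cohomology of complexes of vector bundles below the depth
-/

set_option autoImplicit false
set_option linter.style.haveILetI false
set_option backward.isDefEq.respectTransparency false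

universe u

open CategoryTheory CategoryTheory.Limits CategoryTheory.Pretriangulated AlgebraicGeometry

attribute [local instance] HasDerivedCategory.standard

namespace Groth.Agent.H16Derived.RGammaZ

open DerivedCategory.TStructure (t)
open Groth.Agent.H16Derived.KFlat Groth.Agent.H16Derived.KFlat.Stalk

variable {U X : Scheme.{u}}

/-- `RΓ_Z` only depends on the range. -/
theorem nonempty_rgammaZ_range {U' : Scheme.{u}} (j : U ⟶ X) [IsOpenImmersion j] (i : U' ⟶ X)
    [IsOpenImmersion i] (h : Set.range j.base = Set.range i.base) [CxOX.HasRgammaZ j] [CxOX.HasRgammaZ i]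
    (K : DCoh.D X) : Nonempty ((CxOX.RgammaZ j).obj K ≅ (CxOX.RgammaZ i).obj K) := by
  obtain ⟨C, p, w, hT, hC⟩ := exists_triangle_loc j K
  have hA : IsZero ((rd i).obj ((CxOX.RgammaZ j).obj K)) :=
    isZero_rd_of_subset j i h.ge (isZero_rd_rgammaZ j K)
  obtain ⟨α, hα⟩ := exists_factor i K hA ((CxOX.RgammaZToId j).app K)
  haveI : IsIso α := isIso_of_loc α hA hα hT (hC.of_range j i h.le)
  exact ⟨asIso α⟩

variable (j : U ⟶ X) [IsOpenImmersion j]

theorem isZero_rd_of_support {E : DCoh.D X} (h : ∀ i, CohB1.support (DCoh.HD E i) ⊆ (Set.range j.base)ᶜ) :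
    IsZero ((rd j).obj E) :=
  (isZero_rd_iff E).2 h

variable [CxOX.HasRgammaZ j]

theorem support_rgammaZ (K : DCoh.D X) (i : ℤ) :
    CohB1.support (DCoh.HD ((CxOX.RgammaZ j).obj K) i) ⊆ (Set.range j.base)ᶜ :=
  (isZero_rd_iff _).1 (isZero_rd_rgammaZ j K) i

/-- `RΓ_Z` keeps lower bounds. -/
theorem isGE_rgammaZ (K : DCoh.D X) (a : ℤ) [K.IsGE a] : ((CxOX.RgammaZ j).obj K).IsGE a := by
  let G := (CxOX.RgammaZ j).obj K
  haveI : DerivedCategory.IsLE ((t.truncLT a).obj G) (a - 1) := inferInstanceAs (t.IsLE _ (a - 1))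
  have hB : IsZero ((rd j).obj ((t.truncLT a).obj G)) := by
    refine isZero_rd_of_support j fun i => ?_
    rcases lt_or_ge i a with hi | hi
    · haveI := DTrunc.isIso_homology_truncLTι G a i hi
      rw [MVPush.support_iso (asIso ((DerivedCategory.homologyFunctor _ i).map ((t.truncLTι a).app G)))]
      exact support_rgammaZ j K i
    · rw [Thomason.support_eq_empty_of_isZero (DerivedCategory.isZero_of_isLE _ (a - 1) i (by omega))]
      exact Set.empty_subset _
  haveI hKi : t.IsGE K a := ‹_›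
  have h1 : ∀ f : (t.truncLT a).obj G ⟶ K, f = 0 := fun f => t.zero f (a - 1) a (by omega)
  have h0 : (t.truncLTι a).app G = 0 := (bijective_comp j K hB).1
    ((h1 ((t.truncLTι a).app G ≫ (CxOX.RgammaZToId j).app K)).trans zero_comp.symm)
  refine (DerivedCategory.isGE_iff _ _).2 fun i hi => ?_
  haveI := DTrunc.isIso_homology_truncLTι G a i hi
  let H := DerivedCategory.homologyFunctor X.Modules i
  refine (IsZero.iff_id_eq_zero _).2 ?_
  refine (IsIso.inv_hom_id (H.map ((t.truncLTι a).app G))).symm.trans ?_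
  exact (congrArg (_ ≫ ·) ((congrArg H.map h0).trans (Functor.map_zero _ _ _))).trans comp_zero

omit [IsOpenImmersion j] [CxOX.HasRgammaZ j] in
theorem subsingleton_hom_inD [IsLocallyNoetherian X] (N W : X.Modules) (hN : Coh.IsCoh N) (hW : Coh.IsCoh W)
    (d : ℕ) (hdep : ∀ y ∈ CohB1.support N, (d : ℕ∞) ≤ LocCoh.depth (X.presheaf.stalk y) (W.presheaf.stalk y))
    (i : ℤ) (hi : i < d) : Subsingleton (DCoh.inD X N ⟶ (DCoh.inD X W)⟦i⟧) := by
  haveI := FMKDual.isGE_R_inD N W hN hW d hdep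
  haveI : t.IsGE (((Dual.R (DCoh.inD X N)).obj (DCoh.inD X W))⟦i⟧) ((d : ℤ) - i) :=
    t.isGE_shift _ (d : ℤ) i ((d : ℤ) - i) (by omega)
  have h1 := FMKDual.subsingleton_hom_of_R (DCoh.inD X N) (DCoh.inD X W) i
    ⟨fun f g => (t.zero f 0 ((d : ℤ) - i) (by omega)).trans (t.zero g 0 ((d : ℤ) - i) (by omega)).symm⟩
  exact @Equiv.subsingleton _ _
    ((shiftEquiv' (DCoh.D X) (-i) i (neg_add_cancel i)).toAdjunction.homEquiv _ _).symm h1

omit [IsOpenImmersion j] [CxOX.HasRgammaZ j] in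
/-- No maps from a sheaf supported where the depth is `≥ d` to bundles in degrees `≥ d`, below `2d`. -/
theorem subsingleton_hom_bundles [IsLocallyNoetherian X] (N : X.Modules) (hN : Coh.IsCoh N) (d : ℕ)
    (hdep : ∀ y ∈ CohB1.support N, (d : ℕ∞) ≤ LocCoh.depth (X.presheaf.stalk y) (X.presheaf.stalk y))
    (n : ℤ) (hn : n < 2 * (d : ℤ)) :
    ∀ (m : ℕ) (c : ℤ), (d : ℤ) ≤ c → 2 * (d : ℤ) ≤ c + m → ∀ K : CochainComplex X.Modules ℤ,
      (∀ i, i < c → IsZero (K.X i)) → (∀ i, FlatMod.IsFinLocFree (K.X i)) →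
      Subsingleton (DCoh.inD X N ⟶ (DCoh.toD X K)⟦n⟧) := by
  intro m
  induction m with
  | zero =>
    intro c hdc hc K hK _
    haveI : K.IsStrictlyGE c := (CochainComplex.isStrictlyGE_iff _ _).2 fun i hi => hK i hi
    haveI : (DCoh.toD X K).IsGE c := (DerivedCategory.isGE_Q_obj_iff K c).2 inferInstance
    haveI : t.IsGE ((DCoh.toD X K)⟦n⟧) (c - n) := t.isGE_shift _ c n (c - n) (by omega)
    exact ⟨fun f g => (t.zero f 0 (c - n) (by omega)).trans (t.zero g 0 (c - n) (by omega)).symm⟩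
  | succ m ih =>
    intro c hdc hc K hK hKf
    have hS := Brutal.shortExact K (c + 1)
    let T := DerivedCategory.triangleOfSES hS
    have hT : T ∈ distTriang (DCoh.D X) := DerivedCategory.triangleOfSES_distinguished hS
    have h₁ : Subsingleton (DCoh.inD X N ⟶ (DCoh.toD X (Brutal.geq K (c + 1)))⟦n⟧) :=
      ih (c + 1) (by omega) (by omega) _ (fun i hi => Brutal.isZero_geq K _ hi) fun i => by
        rcases lt_or_ge i (c + 1) with hi | hi
        · exact isFinLocFree_of_isZero (Brutal.isZero_geq K _ hi)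
        · haveI := Brutal.isIso_ι_f K (c + 1) hi
          exact isFinLocFree_of_iso (asIso ((Brutal.ι K (c + 1)).f i)).symm (hKf i)
    let Q := cokernel (Brutal.ι K (c + 1))
    have hz : ∀ i, i ≠ c → IsZero (Q.X i) := fun i hi => by
      by_cases h : c + 1 ≤ i
      · exact Brutal.isZero_cokernel K _ h
      · exact Brutal.isZero_cokernel' K _ (hK i (by omega))
    haveI : Q.IsStrictlyGE c := (CochainComplex.isStrictlyGE_iff _ c).2 fun q hq => hz q (by omega)
    haveI : Q.IsStrictlyLE c := (CochainComplex.isStrictlyLE_iff _ c).2 fun q hq => hz q (by omega)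
    obtain ⟨M, ⟨eM⟩⟩ := CochainComplex.exists_iso_single Q c
    haveI := Brutal.isIso_cokernel_π K (c + 1) (show c < c + 1 by omega)
    let eKc : K.X c ≅ M := asIso ((cokernel.π (Brutal.ι K (c + 1))).f c) ≪≫
      (HomologicalComplex.eval X.Modules (ComplexShape.up ℤ) c).mapIso eM ≪≫
      HomologicalComplex.singleObjXSelf (ComplexShape.up ℤ) c M
    have hMf : FlatMod.IsFinLocFree M := isFinLocFree_of_iso eKc (hKf c)
    have hMd : ∀ y ∈ CohB1.support N, (d : ℕ∞) ≤ LocCoh.depth (X.presheaf.stalk y) (M.presheaf.stalk y) :=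
      fun y hy => by
        haveI := H8Props.FinLocFree.free_stalk _ hMf y
        haveI := H06Mod.finite_stalk _ (H29Fitt.isFT_of_isFP _ (H8Props.FinLocFree.isFP_of_isFinLocFree _ hMf)) y
        exact (hdep y hy).trans (FMKWit.idealDepth_le_of_free _ _)
    have hMc : Coh.IsCoh M := ⟨H8Props.FinLocFree.isQCoh_of_isFinLocFree _ hMf,
      H29Fitt.isFT_of_isFP _ (H8Props.FinLocFree.isFP_of_isFinLocFree _ hMf)⟩
    have h₃ : Subsingleton (DCoh.inD X N ⟶ (DCoh.toD X Q)⟦n⟧) := by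
      let e : (DCoh.toD X Q)⟦n⟧ ≅ (DCoh.inD X M)⟦n - c⟧ :=
        (shiftFunctor _ n).mapIso (DerivedCategory.Q.mapIso eM ≪≫
          ((DerivedCategory.singleFunctorIsoCompQ X.Modules c).app M).symm ≪≫
          (((DerivedCategory.singleFunctors X.Modules).shiftIso (-c) c 0 (by omega)).app M).symm) ≪≫
        ((shiftFunctorAdd' (DCoh.D X) (-c) n (n - c) (by omega)).app _).symm
      exact FMKWit.ss_of_iso _ e.symm (subsingleton_hom_inD N M hN hMc d hMd (n - c) (by omega))
    exact FMKWit.ss₂' _ T hT n h₁ h₃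

omit [IsOpenImmersion j] [CxOX.HasRgammaZ j] in
/-- The depth of the local rings of an open. -/
theorem depth_stalk_open (V : X.Opens) (v : (V : Scheme.{u})) :
    LocCoh.depth ((V : Scheme.{u}).presheaf.stalk v) ((V : Scheme.{u}).presheaf.stalk v) =
      LocCoh.depth (X.presheaf.stalk (V.ι v)) (X.presheaf.stalk (V.ι v)) :=
  (H06EGA12.invariants_of_semilinear (FMKDual.stalkEquiv' V v).toRingHom (FMKDual.stalkEquiv' V v).surjective
    (FMKDual.stalkEquiv' V v).toAddEquiv fun a m => (FMKDual.stalkEquiv' V v).map_mul a m).1.symm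

/-- `H^n_Z = 0` below `2d` for bundles in degrees `≥ d` and depth `≥ d` along `Z`. -/
theorem isGE_rgammaZ_bundles [IsLocallyNoetherian X] (d : ℕ)
    (hdepth : ∀ y : X, y ∉ Set.range j.base →
      (d : ℕ∞) ≤ LocCoh.depth (X.presheaf.stalk y) (X.presheaf.stalk y))
    (K : CochainComplex X.Modules ℤ) (hK : ∀ i : ℤ, i < (d : ℤ) → IsZero (K.X i))
    (hKlf : ∀ i, FlatMod.IsFinLocFree (K.X i)) :
    ((CxOX.RgammaZ j).obj (DCoh.toD X K)).IsGE (2 * (d : ℤ)) := by
  let G := (CxOX.RgammaZ j).obj (DCoh.toD X K)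
  haveI : K.IsStrictlyGE d := (CochainComplex.isStrictlyGE_iff _ _).2 fun i hi => hK i hi
  haveI : (DCoh.toD X K).IsGE d := (DerivedCategory.isGE_Q_obj_iff K d).2 inferInstance
  haveI := isGE_rgammaZ j (DCoh.toD X K) d
  suffices h : ∀ m : ℕ, (d : ℤ) + m ≤ 2 * d → G.IsGE ((d : ℤ) + m) by
    have := h d (by omega)
    rwa [show (d : ℤ) + d = 2 * d by omega] at this
  intro m
  induction m with
  | zero => intro _; simpa using (inferInstance : G.IsGE (d : ℤ))
  | succ m ih =>
    intro hm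
    let n : ℤ := (d : ℤ) + m
    haveI : G.IsGE n := ih (by omega)
    refine (DerivedCategory.isGE_iff _ _).2 fun i hi => ?_
    rcases lt_or_eq_of_le (show i ≤ n by push_cast at hi ⊢; omega) with hin | rfl
    · exact DerivedCategory.isZero_of_isGE G n i hin
    refine KFlat.Stalk.isZero_of_stalk fun x => ?_
    by_contra hne
    obtain ⟨_, ⟨V₀, hV : IsAffineOpen V₀, rfl⟩, hxV, -⟩ :=
      X.isBasis_affineOpens.exists_subset_of_mem_open (Set.mem_univ x) isOpen_univ
    obtain ⟨V, rfl⟩ : ∃ V : X.Opens, V = V₀ := ⟨V₀, rfl⟩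
    haveI : IsAffine (V : Scheme.{u}) := hV
    haveI : IsLocallyNoetherian (V : Scheme.{u}) := isLocallyNoetherian_of_isOpenImmersion V.ι
    haveI : IsNoetherian (V : Scheme.{u}) := ⟨⟩
    let W := j.opensRange
    let W' := V.ι ⁻¹ᵁ W
    haveI := hasRgammaZ W.ι
    haveI := hasRgammaZ W'.ι
    haveI : QuasiCompact W'.ι :=
      haveI : CompactSpace (W' : Scheme.{u}) :=
        isCompact_iff_compactSpace.1 (TopologicalSpace.NoetherianSpace.isCompact _)
      quasiCompact_of_compactSpace W'.ι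
    obtain ⟨e₁⟩ := nonempty_rgammaZ_range j W.ι (by rw [Scheme.Opens.range_ι]; rfl) (DCoh.toD X K)
    obtain ⟨e₂⟩ := nonempty_rd_rgammaZ V.ι W (DCoh.toD X K)
    let K' := (DCoh.restrictCx V).obj K
    let e : (rd V.ι).obj G ≅ (CxOX.RgammaZ W'.ι).obj (DCoh.toD _ K') :=
      (rd V.ι).mapIso e₁ ≪≫ e₂ ≪≫ (CxOX.RgammaZ W'.ι).mapIso ((rdQ V.ι).app K)
    let G' := (CxOX.RgammaZ W'.ι).obj (DCoh.toD _ K')
    haveI : ((rd V.ι).obj G).IsGE n := (DerivedCategory.isGE_iff _ _).2 fun l hl =>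
      ((Scheme.Modules.restrictFunctor V.ι).map_isZero (DerivedCategory.isZero_of_isGE G n l hl)).of_iso
        (homologyRdIso V.ι G l)
    haveI : G'.IsGE n := ⟨(t.ge n).prop_of_iso e (t.ge_of_isGE _ n)⟩
    have hK'f : ∀ l, FlatMod.IsFinLocFree (K'.X l) := fun l =>
      isFinLocFree_of_iso ((Scheme.Modules.restrictFunctorIsoPullback V.ι).app (K.X l)).symm
        (isFinLocFree_pullback V.ι (hKlf l))
    have hK' : ∀ l, l < (d : ℤ) → IsZero (K'.X l) := fun l hl =>
      (Scheme.Modules.restrictFunctor V.ι).map_isZero (hK l hl)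
    let H := DCoh.HD G' n
    have hH : Coh.IsQCoh H := isQCohD_rgammaZ (j := W'.ι)
      (QCohD.AffineUnit.isQCohD_Q K' fun l => H8Props.FinLocFree.isQCoh_of_isFinLocFree _ (hK'f l)) n
    have hHz : ¬ IsZero H := fun hz => hne <| by
      have hz' : IsZero ((Scheme.Modules.restrictFunctor V.ι).obj (DCoh.HD G n)) :=
        hz.of_iso ((homologyRdIso V.ι G n).symm ≪≫ (DerivedCategory.homologyFunctor _ n).mapIso e)
      have hx : x ∉ CohB1.support (DCoh.HD G n) := fun hx => Set.eq_empty_iff_forall_notMem.1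
        (Thomason.support_eq_empty_of_isZero hz') ⟨x, hxV⟩ ((MVPush.mem_support_restrict V _ ⟨x, hxV⟩).2 hx)
      haveI : Subsingleton ((DCoh.HD G n).presheaf.stalk x) := not_not.1 hx
      exact @ModuleCat.isZero_of_subsingleton _ _ ((DerSch.stalkFunctor X x).obj (DCoh.HD G n))
        (inferInstanceAs (Subsingleton ((DCoh.HD G n).presheaf.stalk x)))
    obtain ⟨U₀, hU₀, s, hs⟩ : ∃ (U₀ : (V : Scheme.{u}).Opens) (_ : IsAffineOpen U₀) (s : Γ(H, U₀)), s ≠ 0 := by
      by_contra hall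
      push Not at hall
      refine hHz (KFlat.Stalk.isZero_of_stalk fun v => ?_)
      refine @ModuleCat.isZero_of_subsingleton _ _ ((DerSch.stalkFunctor _ v).obj H) ?_
      refine ⟨fun a b => ?_⟩
      suffices h0 : ∀ c : H.presheaf.stalk v, c = 0 from (h0 a).trans (h0 b).symm
      intro c
      obtain ⟨O', hvO', s', rfl⟩ := H.presheaf.germ_exist c
      obtain ⟨_, ⟨U₁, hU₁, rfl⟩, hvU₁, hU₁O⟩ :=
        (V : Scheme.{u}).isBasis_affineOpens.exists_subset_of_mem_open hvO' O'.2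
      have hle : U₁ ≤ O' := hU₁O
      exact (TopCat.Presheaf.germ_res_apply H.presheaf (homOfLE hle) v hvU₁ s').symm.trans
        ((congrArg _ (hall U₁ hU₁ _)).trans (map_zero _))
    obtain ⟨N, k, hk, hN, hsk⟩ := H17.CohSub.exists_coh_sub H hH hU₀ {s}
    haveI := hk
    have hk0 : k ≠ 0 := fun h0 => by
      obtain ⟨r, hr⟩ := hsk s (Finset.mem_singleton_self s)
      rw [h0] at hr
      exact hs hr.symm
    have hNs : CohB1.support N ⊆ (Set.range W'.ι.base)ᶜ :=
      (H4RSH.CurveGen.support_subset_of_mono k).trans (support_rgammaZ W'.ι _ n)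
    have hd' : ∀ v ∈ CohB1.support N, (d : ℕ∞) ≤
        LocCoh.depth ((V : Scheme.{u}).presheaf.stalk v) ((V : Scheme.{u}).presheaf.stalk v) := fun v hv => by
      rw [depth_stalk_open]
      refine hdepth _ fun hr => hNs hv ?_
      rw [Scheme.Opens.range_ι]
      exact hr
    have hss : Subsingleton (DCoh.inD _ N ⟶ (DCoh.toD _ K')⟦n⟧) :=
      subsingleton_hom_bundles N hN d hd' n (by push_cast at hm; omega) d d le_rfl (by omega) K' hK' hK'f
    haveI : DerivedCategory.IsGE ((t.truncLT (n + 1)).obj G') n := DTrunc.isGE_truncLT G' (n + 1) n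
    haveI : DerivedCategory.IsLE ((t.truncLT (n + 1)).obj G') n := by
      have h : t.IsLE ((t.truncLT (n + 1)).obj G') (n + 1 - 1) := inferInstance
      simpa using h
    obtain ⟨M, ⟨eM⟩⟩ := ((t.truncLT (n + 1)).obj G').exists_iso_singleFunctor_obj_of_isGE_of_isLE n
    haveI := DTrunc.isIso_homology_truncLTι G' (n + 1) n (by omega)
    let Hn := DerivedCategory.homologyFunctor (V : Scheme.{u}).Modules n
    let sn := DerivedCategory.singleFunctorCompHomologyFunctorIso (V : Scheme.{u}).Modules n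
    let eH : M ≅ H := (sn.app M).symm ≪≫ Hn.mapIso eM.symm ≪≫ asIso (Hn.map ((t.truncLTι (n + 1)).app G'))
    let S := DerivedCategory.singleFunctor (V : Scheme.{u}).Modules n
    let φ : S.obj N ⟶ G' := S.map (k ≫ eH.inv) ≫ eM.inv ≫ (t.truncLTι (n + 1)).app G'
    have hB : IsZero ((rd W'.ι).obj (S.obj N)) := by
      refine isZero_rd_of_support W'.ι fun l => ?_
      by_cases hl : l = n
      · subst hl
        exact (MVPush.support_iso (sn.app N)).trans_subset hNs
      · have hz : IsZero (DCoh.HD (S.obj N) l) := by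
          rcases lt_or_gt_of_ne hl with h | h
          · exact DerivedCategory.isZero_of_isGE _ n l h
          · exact DerivedCategory.isZero_of_isLE _ n l h
        rw [Thomason.support_eq_empty_of_isZero hz]
        exact Set.empty_subset _
    have hsN : Subsingleton (S.obj N ⟶ DCoh.toD _ K') := by
      let eS : (DCoh.inD _ N)⟦-n⟧ ≅ S.obj N :=
        ((DerivedCategory.singleFunctors (V : Scheme.{u}).Modules).shiftIso (-n) n 0 (by omega)).app N
      have h1 : Subsingleton ((DCoh.inD _ N)⟦-n⟧ ⟶ DCoh.toD _ K') :=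
        @Equiv.subsingleton _ _ ((shiftEquiv' (DCoh.D (V : Scheme.{u})) (-n) n (neg_add_cancel n)).toAdjunction.homEquiv _ _) hss
      exact @Equiv.subsingleton _ _ (Iso.homCongr eS (Iso.refl _)).symm h1
    have hφ : φ = 0 := (bijective_comp W'.ι (DCoh.toD _ K') hB).1 (hsN.elim _ _)
    have h2 : Hn.map φ = 0 := (congrArg Hn.map hφ).trans (Functor.map_zero _ _ _)
    have h3 : Hn.map φ = (sn.app N).hom ≫ (k ≫ eH.inv) ≫ eH.hom := by
      have hnat : Hn.map (S.map (k ≫ eH.inv)) ≫ (sn.app M).hom = (sn.app N).hom ≫ (k ≫ eH.inv) :=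
        sn.hom.naturality (k ≫ eH.inv)
      have hg : Hn.map (S.map (k ≫ eH.inv)) = (sn.app N).hom ≫ (k ≫ eH.inv) ≫ (sn.app M).inv := by
        rw [← Category.assoc, ← hnat, Category.assoc, Iso.hom_inv_id]
        exact (Category.comp_id _).symm
      simp only [φ, Functor.map_comp] at hg ⊢
      rw [hg]
      simp [eH, Category.assoc]
    rw [h3, Category.assoc, Iso.inv_hom_id, Category.comp_id] at h2
    exact hk0 ((cancel_epi (sn.app N).hom).1 (h2.trans comp_zero.symm))

/-- `H^n_Z(X, K) = 0` below `2d`. -/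
theorem isZero_rsectZ_bundles [IsLocallyNoetherian X] [CxOX.HasRsectZ j] (d : ℕ)
    (hdepth : ∀ y : X, y ∉ Set.range j.base →
      (d : ℕ∞) ≤ LocCoh.depth (X.presheaf.stalk y) (X.presheaf.stalk y))
    (K : CochainComplex X.Modules ℤ) (hK : ∀ i : ℤ, i < (d : ℤ) → IsZero (K.X i))
    (hKlf : ∀ i, FlatMod.IsFinLocFree (K.X i)) (n : ℤ) (hn : n < 2 * (d : ℤ)) :
    IsZero ((DerivedCategory.homologyFunctor AddCommGrpCat.{u} n).obj ((CxOX.RsectZ j).obj (DCoh.toD X K))) := by
  obtain ⟨e⟩ := nonempty_rsectZ_hom j (DCoh.toD X K) n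
  haveI := isGE_rgammaZ_bundles j d hdepth K hK hKlf
  haveI : t.IsGE (((CxOX.RgammaZ j).obj (DCoh.toD X K))⟦n⟧) (2 * (d : ℤ) - n) :=
    t.isGE_shift _ (2 * (d : ℤ)) n (2 * (d : ℤ) - n) (by omega)
  have h : Subsingleton (DCoh.inD X (supObj j) ⟶ ((CxOX.RgammaZ j).obj (DCoh.toD X K))⟦n⟧) :=
    ⟨fun f g => (t.zero f 0 (2 * (d : ℤ) - n) (by omega)).trans (t.zero g 0 (2 * (d : ℤ) - n) (by omega)).symm⟩
  exact @AddCommGrpCat.isZero_of_subsingleton _ (@Equiv.subsingleton _ _ e.toEquiv h)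

/-- `Γ(X, H^{2d}_Z K) = H^{2d}_Z(X, K)`. -/
theorem nonempty_rsectZ_top [IsLocallyNoetherian X] [CxOX.HasRsectZ j] (d : ℕ)
    (hdepth : ∀ y : X, y ∉ Set.range j.base →
      (d : ℕ∞) ≤ LocCoh.depth (X.presheaf.stalk y) (X.presheaf.stalk y))
    (K : CochainComplex X.Modules ℤ) (hK : ∀ i : ℤ, i < (d : ℤ) → IsZero (K.X i))
    (hKlf : ∀ i, FlatMod.IsFinLocFree (K.X i)) :
    Nonempty ((DCoh.gammaAb X).obj (DCoh.HD ((CxOX.RgammaZ j).obj (DCoh.toD X K)) (2 * (d : ℤ))) ≃+
      ((DerivedCategory.homologyFunctor AddCommGrpCat.{u} (2 * (d : ℤ))).obj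
        ((CxOX.RsectZ j).obj (DCoh.toD X K)) : AddCommGrpCat.{u})) := by
  obtain ⟨e⟩ := nonempty_rsectZ_hom j (DCoh.toD X K) (2 * (d : ℤ))
  let a : ℤ := 2 * (d : ℤ)
  let G := (CxOX.RgammaZ j).obj (DCoh.toD X K)
  haveI : G.IsGE a := isGE_rgammaZ_bundles j d hdepth K hK hKlf
  let P := (shiftFunctor (DCoh.D X) a).obj G
  haveI : t.IsGE P 0 := t.isGE_shift _ a a 0 (by omega)
  haveI : DerivedCategory.IsGE ((t.truncLT 1).obj P) 0 := DTrunc.isGE_truncLT P 1 0
  haveI : DerivedCategory.IsLE ((t.truncLT 1).obj P) 0 := by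
    have h : t.IsLE ((t.truncLT 1).obj P) (1 - 1) := inferInstance
    simpa using h
  obtain ⟨M, ⟨eM⟩⟩ := DerivedCategory.exists_iso_singleFunctor_obj_of_isGE_of_isLE ((t.truncLT (1 : ℤ)).obj P) 0
  haveI := DTrunc.isIso_homology_truncLTι P 1 0 (by omega)
  let eH : DCoh.HD G a ≅ M :=
    (((DerivedCategory.homologyFunctor X.Modules 0).shiftIso a 0 a (by omega)).app G).symm ≪≫
      (asIso ((DerivedCategory.homologyFunctor X.Modules 0).map ((t.truncLTι 1).app P))).symm ≪≫
      (DerivedCategory.homologyFunctor X.Modules 0).mapIso eM ≪≫ hdSingle M 0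
  haveI : t.IsLE (DCoh.inD X (supObj j)) 0 :=
    inferInstanceAs (((DerivedCategory.singleFunctor X.Modules 0).obj (supObj j)).IsLE 0)
  have hb : Function.Bijective (fun f : DCoh.inD X (supObj j) ⟶ (t.truncLT 1).obj P => f ≫ (t.truncLTι 1).app P) :=
    ⟨fun f g h => @Triangulated.TStructure.to_truncLT_obj_ext _ _ _ _ _ _ _ t 1 _ _ f g h
        (inferInstanceAs (t.IsLE _ 0)),
      fun f => ⟨t.liftTruncLT f 0 1 rfl, t.liftTruncLT_ι f 0 1 rfl⟩⟩
  have hS : IsZero ((Scheme.Modules.restrictFunctor j).obj (DCoh.HD G a)) :=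
    ((DerivedCategory.homologyFunctor _ a).map_isZero (isZero_rd_rgammaZ j (DCoh.toD X K))).of_iso
      (homologyRdIso j G a).symm
  haveI : IsIso (kernel.ι ((Scheme.Modules.restrictAdjunction j).unit.app (DCoh.HD G a))) := by
    have h0 : (Scheme.Modules.restrictAdjunction j).unit.app (DCoh.HD G a) = 0 :=
      ((Scheme.Modules.pushforward j).map_isZero hS).eq_of_tgt _ _
    exact ⟨kernel.lift _ (𝟙 _) (by rw [h0, comp_zero]), equalizer.hom_ext (by
      erw [Category.assoc, kernel.lift_ι, Category.comp_id]), kernel.lift_ι _ _ _⟩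
  let eγ : (DCoh.gammaZ j).obj (DCoh.HD G a) ≅ DCoh.HD G a :=
    asIso (kernel.ι ((Scheme.Modules.restrictAdjunction j).unit.app (DCoh.HD G a)))
  let S := DerivedCategory.singleFunctor X.Modules 0
  exact ⟨(((DCoh.gammaAb X).mapIso eγ).symm.addCommGroupIsoToAddEquiv).trans <|
    (supEquiv j (DCoh.HD G a)).symm.trans <|
    ({ toFun := fun f => f ≫ eH.hom
       invFun := fun f => f ≫ eH.inv
       left_inv := fun f => by simp
       right_inv := fun f => by simp
       map_add' := fun f g => Preadditive.add_comp _ _ _ f g _ } : (supObj j ⟶ DCoh.HD G a) ≃+ (supObj j ⟶ M)).trans <|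
    (AddEquiv.ofBijective (S.mapAddHom) ⟨S.map_injective, S.map_surjective⟩).trans <|
    ({ toFun := fun f => f ≫ eM.inv
       invFun := fun f => f ≫ eM.hom
       left_inv := fun f => by simp
       right_inv := fun f => by simp
       map_add' := fun f g => Preadditive.add_comp _ _ _ f g _ } : (S.obj (supObj j) ⟶ S.obj M) ≃+
        (DCoh.inD X (supObj j) ⟶ (t.truncLT 1).obj P)).trans <|
    (AddEquiv.ofBijective (AddMonoidHom.mk' (fun f : DCoh.inD X (supObj j) ⟶ (t.truncLT 1).obj P =>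
      f ≫ (t.truncLTι 1).app P) (fun f g => Preadditive.add_comp _ _ _ f g _)) hb).trans e.symm⟩

end Groth.Agent.H16Derived.RGammaZ
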