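import Groth.Agent.H16Derived.ExtCech
import Groth.Agent.H4Koszul.TensorCone
import Mathlib.RingTheory.Flat.CategoryTheory
import Mathlib.Algebra.Category.ModuleCat.Monoidal.Closed

/-!
# The extended Čech complex of a Koszul-regular sequence with flat coefficients
-/

set_option autoImplicit false
set_option linter.style.haveILetI false
set_option backward.isDefEq.respectTransparency false

universe u

open CategoryTheory CategoryTheory.Limits CochainComplex MonoidalCategory

namespace Groth.Agent.H16Derived.RGammaZ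

variable {A : Type u} [CommRing A] (M : ModuleCat.{u} A)

theorem tR_smul_id (a : A) (K : DRing.Cx A) :
    ((tensorRight M).mapHomologicalComplex (ComplexShape.up ℤ)).map (a • 𝟙 K) =
      a • 𝟙 (((tensorRight M).mapHomologicalComplex (ComplexShape.up ℤ)).obj K) := by
  refine HomologicalComplex.hom_ext _ _ fun i => ?_
  show (a • 𝟙 (K.X i)) ▷ M = a • 𝟙 (K.X i ⊗ M)
  rw [MonoidalLinear.smul_whiskerRight, id_whiskerRight]

/-- The Koszul complex with coefficients is the Koszul complex tensored with the module. -/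
theorem nonempty_koszulCx_iso : ∀ l : List A,
    Nonempty (((tensorRight M).mapHomologicalComplex (ComplexShape.up ℤ)).obj (Koszul.koszul A l) ≅
      CohIII.koszulCx M l)
  | [] => ⟨(HomologicalComplex.singleMapHomologicalComplex (tensorRight M) (ComplexShape.up ℤ) 0).app _ ≪≫
      (HomologicalComplex.single (ModuleCat.{u} A) (ComplexShape.up ℤ) 0).mapIso (λ_ M)⟩
  | a :: l => by
    obtain ⟨e⟩ := nonempty_koszulCx_iso l
    obtain ⟨e'⟩ := H4Koszul.cone_smul_iso a e
    exact ⟨mappingCone.mapHomologicalComplexIso (a • 𝟙 (Koszul.koszul A l)) (tensorRight M) ≪≫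
      eqToIso (by rw [tR_smul_id]) ≪≫ e'⟩

theorem isZero_koszulCx_homology [Module.Flat A M] (l : List A) (hl : LCI.IsKoszulRegularSeq A l)
    (i : ℤ) (hi : i ≠ 0) : IsZero ((CohIII.koszulCx M l).homology i) := by
  obtain ⟨e⟩ := nonempty_koszulCx_iso M l
  rw [← HomologicalComplex.exactAt_iff_isZero_homology]
  refine HomologicalComplex.ExactAt.of_iso ?_ e
  have h := (HomologicalComplex.exactAt_iff_isZero_homology _ i).2 (hl i hi)
  rw [HomologicalComplex.exactAt_iff] at h ⊢
  exact h.map (tensorRight M)

theorem isZero_extCechH_flat [Module.Flat A M] (fs : List A) (hfs : LCI.IsKoszulRegularSeq A fs)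
    (q : ℤ) (hq : q ≠ (fs.length : ℤ)) : IsZero (DerCA.extCechH fs M q) := by
  by_cases hq' : q < 0 ∨ (fs.length : ℤ) < q
  · exact ExtCech.isZero_extCechH_of_degree _ fs q hq'
  obtain ⟨p, rfl⟩ : ∃ p : ℕ, q = p := ⟨q.toNat, by omega⟩
  obtain ⟨e⟩ := H02CA.KEC.nonempty_koszulHLim_equiv M fs p
  have hz : ∀ n, IsZero ((CohIII.koszulCx M (fs.map (· ^ n))).homology ((p : ℤ) - fs.length)) := fun n =>
    isZero_koszulCx_homology M _ (KoszulPow.isKoszulRegularSeq_map_pow n fs hfs) _ (by omega)
  refine ModuleCat.isZero_iff_subsingleton.2 ⟨fun a b => ?_⟩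
  suffices ∀ c : DerCA.extCechH fs M p, c = 0 from (this a).trans (this b).symm
  intro c
  obtain ⟨w, rfl⟩ := e.surjective c
  have : w = 0 := by
    induction w using Module.DirectLimit.induction_on with
    | ih n v =>
      rw [show v = 0 from @Subsingleton.elim _ (ModuleCat.subsingleton_of_isZero (hz n)) v 0, map_zero]
  rw [this, map_zero]

end Groth.Agent.H16Derived.RGammaZ
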