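import Groth.Agent.H16Derived.RGammaZ.Supp
import Groth.Agent.H25HomO.DerivedPlus

/-!
# The bounded below derived functor of sections with support
-/

set_option autoImplicit false
set_option linter.style.haveILetI false
set_option backward.isDefEq.respectTransparency false

universe u

open CategoryTheory CategoryTheory.Limits AlgebraicGeometry

attribute [local instance] HasDerivedCategory.standard

namespace Groth.Agent.H16Derived.RGammaZ

/-- The two derived functors agree on bounded below objects. -/
theorem nonempty_plus_iso {U X : Scheme.{u}} (j : U ⟶ X) [IsOpenImmersion j] [EnoughInjectives X.Modules]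
    [CxOX.HasRgammaZ j] (E : DerivedCategory.Plus X.Modules) :
    Nonempty (((DCoh.RgammaZPlus j).obj E).obj ≅ (CxOX.RgammaZ j).obj E.obj) := by
  let W := HomotopyCategory.Plus.quasiIso X.Modules
  haveI := Localization.essSurj (DerivedCategory.Plus.Qh (C := X.Modules)) W
  let M := DerivedCategory.Plus.Qh.objPreimage E
  obtain ⟨I, s, hs, hI⟩ := H25HomO.exists_local M
  haveI : IsIso (DerivedCategory.Plus.Qh.map s) := Localization.inverts DerivedCategory.Plus.Qh W s hs
  let eE : DerivedCategory.Plus.Qh.obj I ≅ E :=
    (asIso (DerivedCategory.Plus.Qh.map s)).symm ≪≫ DerivedCategory.Plus.Qh.objObjPreimageIso E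
  let u := (DCoh.gammaZ j).rightDerivedFunctorPlusUnit
  haveI : IsIso (u.app I) :=
    RDerived.isIso_unit_app_of_bijective DerivedCategory.Plus.Qh W _ _ u _
      fun K => DerivedCategory.Plus.Qh_map_bijective_of_isKInjective K I hI
  haveI : CochainComplex.IsKInjective I.1.as := hI
  haveI : IsIso ((gammaUnit j).app I.1) := isIso_gammaUnit j I.1.as
  exact ⟨DerivedCategory.Plus.ι.mapIso ((DCoh.RgammaZPlus j).mapIso eE.symm ≪≫ (asIso (u.app I)).symm) ≪≫
    (DerivedCategory.Plus.QhCompιIsoιCompQh X.Modules).app ((DCoh.gammaZ j).mapHomotopyCategoryPlus.obj I) ≪≫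
    asIso ((gammaUnit j).app I.1) ≪≫
    (CxOX.RgammaZ j).mapIso (((DerivedCategory.Plus.QhCompιIsoιCompQh X.Modules).app I).symm ≪≫
      DerivedCategory.Plus.ι.mapIso eE)⟩

end Groth.Agent.H16Derived.RGammaZ
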