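import Groth.Agent.H16Derived.RGammaZ.Restrict
import Groth.Agent.H16Derived.RGammaZ.Cech
import Groth.Agent.H16Derived.RGammaZ.KoszulFlat
import Groth.Agent.H16Derived.AcyclicLES
import Groth.Agent.H16Derived.KFlat.PerfCohSingle
import Groth.Agent.H17.OmegaBij
import Groth.Agent.H8Props.FlatLocus.Sections
import Groth.Agent.H8Props.FinLocFree.Fibre
import Groth.Agent.H17.FPExt.Colimit
import Groth.Agent.H10Coh.Bounded

/-!
# Local cohomology sheaves along a Koszul-regular subscheme
-/

set_option autoImplicit false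
set_option linter.style.haveILetI false
set_option backward.isDefEq.respectTransparency false

universe u

open CategoryTheory CategoryTheory.Limits AlgebraicGeometry

attribute [local instance] HasDerivedCategory.standard

namespace Groth.Agent.H16Derived.RGammaZ

open Groth.Agent.H16Derived.KFlat Groth.Agent.H16Derived.KFlat.Stalk

variable {X : Scheme.{u}}

/-- The local cohomology sheaves are the cohomology of `RΓ_Z`. -/
theorem nonempty_rightDerived_iso {U : Scheme.{u}} (j : U ⟶ X) [IsOpenImmersion j]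
    [HasInjectiveResolutions X.Modules] [CxOX.HasRgammaZ j] (F : X.Modules) (i : ℕ) :
    Nonempty (((DCoh.gammaZ j).rightDerived i).obj F ≅
      (DerivedCategory.homologyFunctor X.Modules (i : ℤ)).obj ((CxOX.RgammaZ j).obj (DCoh.inD X F))) := by
  let R := injectiveResolution F
  let J := R.cochainComplex
  haveI : CochainComplex.IsKInjective J := inferInstance
  haveI hJ : ∀ k, Injective (J.X k) := fun k => inferInstance
  obtain ⟨e⟩ := AcyclicLES.nonempty_rightDerived_iso (DCoh.gammaZ j) J 0 hJ R.ι' i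
  obtain ⟨g, -⟩ := exists_gammaIso j J
  exact ⟨e ≪≫ ((DerivedCategory.homologyFunctorFactors X.Modules (i : ℤ)).app _).symm ≪≫
    (DerivedCategory.homologyFunctor X.Modules (i : ℤ)).mapIso (g ≪≫ (CxOX.RgammaZ j).mapIso
      ((asIso (DerivedCategory.Q.map R.ι')).symm ≪≫
        ((DerivedCategory.singleFunctorIsoCompQ X.Modules 0).app F).symm))⟩

/-- A flat quasi-coherent module on an affine scheme is `M~` with `M` flat. -/
theorem exists_flat_tilde (A : CommRingCat.{u}) (F : (Spec A).Modules) (hF : Coh.IsQCoh F)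
    (hFl : FlatMod.IsFlat F) : ∃ M : ModuleCat.{u} A, Module.Flat A M ∧ Nonempty (F ≅ tilde M) := by
  obtain ⟨M, ⟨e⟩⟩ := H17.OmegaBij.exists_tilde_iso A F hF
  refine ⟨M, Module.flat_of_isLocalized_maximal (R := A) (S := A) M
    (fun P => LocalizedModule P.primeCompl M) (fun P _ => LocalizedModule.mkLinearMap _ _) fun P hP => ?_, ⟨e⟩⟩
  haveI := hP.isPrime
  let p : (Spec A : Scheme.{u}) := (⟨P, hP.isPrime⟩ : PrimeSpectrum A)
  let B := (Spec A).presheaf.stalk p
  letI : Algebra A B := TildeStalk.algebra p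
  haveI : IsLocalization.AtPrime B P := StructureSheaf.IsLocalization.to_stalk A ⟨P, hP.isPrime⟩
  haveI : Module.Flat B ((DerSch.stalkFunctor (Spec A) p).obj F) := hFl p
  haveI : Module.Flat B ((tilde M).presheaf.stalk p) :=
    Module.Flat.of_linearEquiv ((DerSch.stalkFunctor (Spec A) p).mapIso e).toLinearEquiv.symm
  haveI : Module.Flat B (TensorProduct A B M) := Module.Flat.of_linearEquiv (TildeStalk.stalkEquiv M p)
  haveI : Module.Flat A B := IsLocalization.flat B P.primeCompl
  haveI : Module.Flat A (TensorProduct A B M) := Module.Flat.trans A B (TensorProduct A B M)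
  haveI : IsLocalizedModule P.primeCompl (TensorProduct.mk A B M 1) :=
    (isLocalizedModule_iff_isBaseChange P.primeCompl B _).2 (TensorProduct.isBaseChange A M B)
  exact Module.Flat.of_linearEquiv (IsLocalizedModule.iso P.primeCompl (TensorProduct.mk A B M 1))

/-- Vanishing on an affine scheme. -/
theorem isZero_homology_rgammaZ_affine (A : Type u) [CommRing A] (fs : List A)
    (hfs : LCI.IsKoszulRegularSeq A fs) (M : ModuleCat.{u} A) [Module.Flat A M]
    (W : (Spec (CommRingCat.of A)).Opens) (hW : W = LocCoh.puncturedOpen A (Ideal.span {a | a ∈ fs}))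
    [CxOX.HasRgammaZ W.ι] (i : ℤ) (hi : i ≠ (fs.length : ℤ)) :
    IsZero ((DerivedCategory.homologyFunctor _ i).obj ((CxOX.RgammaZ W.ι).obj
      (DCoh.inD (Spec (CommRingCat.of A)) (tilde M)))) := by
  subst hW
  haveI : PreservesFiniteLimits (tilde.functor (CommRingCat.of A)) := H10Coh.tilde_preservesFiniteLimits
  obtain ⟨e⟩ := nonempty_cech_iso M fs
  let T := tilde.functor (CommRingCat.of A)
  let s : (DCoh.tildeD (CommRingCat.of A)).obj (Dual.inD A M) ≅ DCoh.inD _ (tilde M) :=
    (T.mapDerivedCategorySingleFunctor 0).app M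
  refine IsZero.of_iso ?_ ((DerivedCategory.homologyFunctor _ i).mapIso
    ((CxOX.RgammaZ _).mapIso s.symm ≪≫ e.symm ≪≫ T.mapDerivedCategoryFactors.app _) ≪≫
    (DerivedCategory.homologyFunctorFactors _ i).app _)
  refine (HomologicalComplex.exactAt_iff_isZero_homology _ i).1 ?_
  have h := (HomologicalComplex.exactAt_iff_isZero_homology _ i).2 (isZero_extCechH_flat M fs hfs i hi)
  rw [HomologicalComplex.exactAt_iff] at h ⊢
  exact h.map T

/-- Vanishing away from the codimension. -/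
theorem isZero_rightDerived_gammaZ_of_regular (U : X.Opens) [HasInjectiveResolutions X.Modules] (c : ℕ)
    (hZ : ∀ x : X, ∃ (V : X.Opens) (fs : List Γ(X, V)), x ∈ V ∧ IsAffineOpen V ∧ fs.length = c ∧
      LCI.IsKoszulRegularSeq Γ(X, V) fs ∧
      X.zeroLocus (U := V) {a | a ∈ fs} ∩ (V : Set ↥X) = (U : Set ↥X)ᶜ ∩ (V : Set ↥X))
    (F : X.Modules) (hF : Coh.IsQCoh F) (hFl : FlatMod.IsFlat F) (i : ℕ) (hi : i ≠ c) :
    IsZero (((DCoh.gammaZ U.ι).rightDerived i).obj F) := by
  haveI := hasRgammaZ U.ι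
  obtain ⟨e⟩ := nonempty_rightDerived_iso U.ι F i
  refine IsZero.of_iso (H17.FPExt.isZero_of_stalk _ fun x => ?_) e
  obtain ⟨V, fs, hx, hV, hlen, hreg, hz⟩ := hZ x
  let A := Γ(X, V)
  let g : Spec A ⟶ X := hV.fromSpec
  obtain ⟨y, rfl⟩ : x ∈ Set.range g.base := by rw [hV.range_fromSpec]; exact hx
  haveI : ((Scheme.Modules.restrictFunctor g).obj F).IsQuasicoherent :=
    haveI : F.IsQuasicoherent := hF
    Scheme.Modules.isQuasicoherent_restrictFunctor g F
  obtain ⟨M, hM, ⟨eM⟩⟩ := exists_flat_tilde A ((Scheme.Modules.restrictFunctor g).obj F) inferInstance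
    (isFlat_restrictFunctor g hFl)
  have hW : g ⁻¹ᵁ U = LocCoh.puncturedOpen A (Ideal.span {a | a ∈ fs}) := by
    ext p
    show g.base p ∈ U ↔ p ∉ PrimeSpectrum.zeroLocus (Ideal.span {a | a ∈ fs} : Set A)
    rw [PrimeSpectrum.zeroLocus_span, ← hV.fromSpec_preimage_zeroLocus {a | a ∈ fs}]
    show _ ↔ g.base p ∉ X.zeroLocus (U := V) {a | a ∈ fs}
    have hp : g.base p ∈ (V : Set X) := by rw [← hV.range_fromSpec]; exact ⟨p, rfl⟩
    constructor
    · intro hU h
      exact (hz ▸ (show g.base p ∈ X.zeroLocus (U := V) {a | a ∈ fs} ∩ (V : Set X) from ⟨h, hp⟩) :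
        g.base p ∈ (U : Set X)ᶜ ∩ (V : Set X)).1 hU
    · intro h
      by_contra hU
      exact h (hz.symm ▸ (show g.base p ∈ (U : Set X)ᶜ ∩ (V : Set X) from ⟨hU, hp⟩) :
        g.base p ∈ X.zeroLocus (U := V) {a | a ∈ fs} ∩ (V : Set X)).1
  haveI := hasRgammaZ (g ⁻¹ᵁ U).ι
  obtain ⟨r⟩ := nonempty_rd_rgammaZ g U (DCoh.inD X F)
  have h0 := isZero_homology_rgammaZ_affine A fs hreg M (g ⁻¹ᵁ U) hW (i : ℤ) (by omega)
  have h1 : IsZero ((Scheme.Modules.restrictFunctor g).obj (DCoh.HD ((CxOX.RgammaZ U.ι).obj (DCoh.inD X F)) i)) :=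
    h0.of_iso ((homologyRdIso g _ _).symm ≪≫ (DerivedCategory.homologyFunctor _ (i : ℤ)).mapIso
      (r ≪≫ (CxOX.RgammaZ (g ⁻¹ᵁ U).ι).mapIso (rdInD g F ≪≫
        (DerivedCategory.singleFunctor (Spec A).Modules 0).mapIso eM)))
  let H := DCoh.HD ((CxOX.RgammaZ U.ι).obj (DCoh.inD X F)) (i : ℤ)
  let S : (Spec A).Modules ⥤ Ab.{u} :=
    Scheme.Modules.toPresheaf (Spec A) ⋙ TopCat.Presheaf.stalkFunctor Ab.{u} y
  haveI : S.PreservesZeroMorphisms :=
    { map_zero := fun M N => by
        show (TopCat.Presheaf.stalkFunctor Ab.{u} y).map (0 : M.presheaf ⟶ N.presheaf) = 0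
        exact Functor.map_zero _ _ _ }
  have h2 := S.map_isZero h1
  exact AddCommGrpCat.subsingleton_of_isZero
    (h2.of_iso ((Scheme.Modules.restrictStalkNatIso g y).app H).symm)

end Groth.Agent.H16Derived.RGammaZ
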