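import Groth.Agent.H16Derived.RGammaZ.Univ
import Groth.Agent.H16Derived.QCohD.Affine
import Groth.Agent.H16Derived.MVPush.Main
import Mathlib.Algebra.Homology.HomotopyCategory.HomComplexSingle
import Groth.Prelude.Def_CxOX

/-!
# Cohomology with supports as morphisms out of `O_Z`
-/

set_option autoImplicit false
set_option linter.style.haveILetI false
set_option backward.isDefEq.respectTransparency false

universe u

open CategoryTheory CategoryTheory.Limits AlgebraicGeometry Opposite

attribute [local instance] HasDerivedCategory.standard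

noncomputable section

namespace Groth.Agent.H16Derived.RGammaZ

open Groth.Agent.H10Coh Groth.Agent.H16Derived.QCohD
open CochainComplex.HomComplex
open Groth.Agent.H16Derived.KFlat Groth.Agent.H16Derived.KFlat.Stalk

variable {U X : Scheme.{u}}

section Rep

variable (F : X.Modules ⥤ AddCommGrpCat.{u}) [F.Additive] {C : X.Modules} (θ : ∀ M, (C ⟶ M) ≃+ F.obj M)
  (hθ : ∀ {M N : X.Modules} (g : M ⟶ N) (f : C ⟶ M), θ N (f ≫ g) = F.map g (θ M f))

include hθ in
/-- A corepresentable functor on complexes is a Hom complex. -/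
def homComplexIso (I : CochainComplex X.Modules ℤ) :
    CochainComplex.HomComplex ((CochainComplex.singleFunctor X.Modules 0).obj C) I ≅
      (F.mapHomologicalComplex (ComplexShape.up ℤ)).obj I :=
  HomologicalComplex.Hom.isoOfComponents
    (fun n => ((Cochain.fromSingleEquiv (zero_add n)).trans (θ (I.X n))).toAddCommGrpIso)
    (fun n m hnm => by
      obtain rfl : n + 1 = m := hnm
      ext α
      obtain ⟨f, rfl⟩ := Cochain.fromSingleMk_surjective α n (zero_add n)
      show F.map (I.d n (n + 1)) (θ _ (Cochain.fromSingleEquiv (zero_add n) (Cochain.fromSingleMk f _))) =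
        θ _ (Cochain.fromSingleEquiv (zero_add (n + 1)) (δ n (n + 1) (Cochain.fromSingleMk f _)))
      rw [Cochain.δ_fromSingleMk _ _ _ (n + 1) (zero_add _), Cochain.fromSingleEquiv_fromSingleMk,
        Cochain.fromSingleEquiv_fromSingleMk, hθ])

include hθ in
/-- Cohomology of a corepresentable functor on a K-injective complex. -/
def homologyEquivHom (I : CochainComplex X.Modules ℤ) [I.IsKInjective] {E : DCoh.D X}
    (e : DerivedCategory.Q.obj I ≅ E) (n : ℤ) :
    ((F.mapHomologicalComplex (ComplexShape.up ℤ)).obj I).homology n ≃+ (DCoh.inD X C ⟶ E⟦n⟧) :=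
  let S := (CochainComplex.singleFunctor X.Modules 0).obj C
  let q := DerivedCategory.quotientCompQhIso X.Modules
  let eS := (DerivedCategory.singleFunctorIsoCompQ X.Modules 0).app C
  let eI : DerivedCategory.Q.obj (I⟦n⟧) ≅ E⟦n⟧ :=
    (DerivedCategory.Q.commShiftIso n).app I ≪≫ (shiftFunctor _ n).mapIso e
  ((HomologicalComplex.homologyMapIso (homComplexIso F θ hθ I) n).symm.addCommGroupIsoToAddEquiv).trans <|
    (homologyAddEquiv S I n).trans <| (CohomologyClass.homAddEquiv (K := S) (L := I) (n := n)).trans <|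
      (AddEquiv.ofBijective (DerivedCategory.Qh.mapAddHom)
        (CochainComplex.IsKInjective.Qh_map_bijective ((HomotopyCategory.quotient _ _).obj S) (I⟦n⟧))).trans
      { toFun := fun f => eS.hom ≫ (q.app S).inv ≫ f ≫ (q.app (I⟦n⟧)).hom ≫ eI.hom
        invFun := fun f => (q.app S).hom ≫ eS.inv ≫ f ≫ eI.inv ≫ (q.app (I⟦n⟧)).inv
        left_inv := fun f => by simp
        right_inv := fun f => by simp
        map_add' := fun f g => by simp }

end Rep

variable (j : U ⟶ X) [IsOpenImmersion j]

/-- The quotient of `O` by the extension by zero from `U`. -/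
def supObj : X.Modules := cokernel ((CxOX.extZeroAdj j).counit.app (freeSh (⊤ : X.Opens)))

theorem freeShEquiv_add (W : X.Opens) {M : X.Modules} (f g : freeSh W ⟶ M) :
    freeShEquiv W M (f + g) = freeShEquiv W M f + freeShEquiv W M g := by
  have h : ∀ φ : freeSh W ⟶ M, freeShEquiv W M φ = φ.app W (freeShEquiv W _ (𝟙 (freeSh W))) := fun φ => by
    rw [← freeShEquiv_comp, Category.id_comp]
  rw [h (f + g), h f, h g]
  rfl

theorem π_comp_unit {M : X.Modules} (f : supObj j ⟶ M) :
    (cokernel.π ((CxOX.extZeroAdj j).counit.app (freeSh (⊤ : X.Opens))) ≫ f) ≫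
      (Scheme.Modules.restrictAdjunction j).unit.app M = 0 := by
  let R := Scheme.Modules.restrictFunctor j
  let a := CxOX.extZeroAdj j
  have h0 : R.map (cokernel.π (a.counit.app (freeSh (⊤ : X.Opens))) ≫ f) = 0 := by
    refine (a.homEquiv _ M).symm.injective ?_
    rw [Adjunction.homEquiv_counit, Adjunction.homEquiv_counit, Functor.map_zero, zero_comp]
    erw [a.counit.naturality]
    simp
  refine ((Scheme.Modules.restrictAdjunction j).unit.naturality _).trans ?_
  rw [Functor.comp_map, h0, Functor.map_zero, comp_zero]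

theorem counit_comp_ι {M : X.Modules} (h : freeSh (⊤ : X.Opens) ⟶ (DCoh.gammaZ j).obj M) :
    (CxOX.extZeroAdj j).counit.app (freeSh (⊤ : X.Opens)) ≫ h ≫
      kernel.ι ((Scheme.Modules.restrictAdjunction j).unit.app M) = 0 := by
  let R := Scheme.Modules.restrictFunctor j
  let a := CxOX.extZeroAdj j
  refine (a.counit.naturality _).symm.trans ?_
  have h0 : R.map (h ≫ kernel.ι ((Scheme.Modules.restrictAdjunction j).unit.app M)) = 0 := by
    rw [Functor.map_comp]
    exact (congrArg (· ≫ _) ((isZero_restrict_gammaZ j M).eq_of_tgt _ 0)).trans zero_comp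
  rw [Functor.comp_map, h0, Functor.map_zero, zero_comp]

/-- Maps out of `supObj` are sections with support. -/
def supEquiv (M : X.Modules) : (supObj j ⟶ M) ≃+ (CxOX.sectZAb j).obj M where
  toFun f := freeShEquiv ⊤ _ (kernel.lift _ _ (π_comp_unit j f) : freeSh (⊤ : X.Opens) ⟶ (DCoh.gammaZ j).obj M)
  invFun x := cokernel.desc _ _ (counit_comp_ι j ((freeShEquiv ⊤ ((DCoh.gammaZ j).obj M)).symm x))
  left_inv f := by
    refine coequalizer.hom_ext ?_
    erw [cokernel.π_desc, Equiv.symm_apply_apply, kernel.lift_ι]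
  right_inv x := by
    refine (congrArg (freeShEquiv ⊤ _) ?_).trans ((freeShEquiv ⊤ _).apply_symm_apply x)
    refine equalizer.hom_ext ?_
    erw [kernel.lift_ι, cokernel.π_desc]
  map_add' f g := by
    refine (congrArg (freeShEquiv ⊤ _) ?_).trans (freeShEquiv_add ⊤ _ _)
    refine equalizer.hom_ext ?_
    erw [Preadditive.add_comp, kernel.lift_ι, kernel.lift_ι, kernel.lift_ι, Preadditive.comp_add]

theorem gammaZ_map_ι {M N : X.Modules} (g : M ⟶ N) :
    (DCoh.gammaZ j).map g ≫ kernel.ι ((Scheme.Modules.restrictAdjunction j).unit.app N) =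
      kernel.ι ((Scheme.Modules.restrictAdjunction j).unit.app M) ≫ g :=
  kernel.lift_ι _ _ _

theorem supEquiv_natural {M N : X.Modules} (g : M ⟶ N) (f : supObj j ⟶ M) :
    supEquiv j N (f ≫ g) = (CxOX.sectZAb j).map g (supEquiv j M f) := by
  let x : freeSh (⊤ : X.Opens) ⟶ (DCoh.gammaZ j).obj M := kernel.lift _ _ (π_comp_unit j f)
  have h : (kernel.lift _ _ (π_comp_unit j (f ≫ g)) : freeSh (⊤ : X.Opens) ⟶ (DCoh.gammaZ j).obj N) =
      x ≫ (DCoh.gammaZ j).map g := by
    refine equalizer.hom_ext ?_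
    refine (kernel.lift_ι _ _ _).trans ?_
    refine ((Category.assoc _ _ _).symm.trans ?_).trans (Category.assoc _ _ _).symm
    refine ((congrArg (x ≫ ·) (gammaZ_map_ι j g)).trans ?_).symm
    exact (Category.assoc _ _ _).symm.trans (congrArg (· ≫ g) (kernel.lift_ι _ _ _))
  exact (congrArg (freeShEquiv ⊤ _) h).trans (freeShEquiv_comp ⊤ x _)

theorem isZero_restrict_supObj : IsZero ((Scheme.Modules.restrictFunctor j).obj (supObj j)) := by
  let R := Scheme.Modules.restrictFunctor j
  have h : ∀ (M : U.Modules) (g : R.obj (supObj j) ⟶ M), g = 0 := fun M g => by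
    let ad := Scheme.Modules.restrictAdjunction j
    let φ := ad.homEquiv (supObj j) M g
    have h1 : R.map (cokernel.π ((CxOX.extZeroAdj j).counit.app (freeSh (⊤ : X.Opens))) ≫ φ) = 0 := by
      refine ((CxOX.extZeroAdj j).homEquiv _ _).symm.injective ?_
      rw [Adjunction.homEquiv_counit, Adjunction.homEquiv_counit, Functor.map_zero, zero_comp]
      erw [(CxOX.extZeroAdj j).counit.naturality]
      simp
    have h2 : (ad.homEquiv _ M).symm (cokernel.π ((CxOX.extZeroAdj j).counit.app (freeSh (⊤ : X.Opens))) ≫ φ) = 0 := by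
      rw [Adjunction.homEquiv_counit, h1, zero_comp]
    rw [Adjunction.homEquiv_naturality_left_symm] at h2
    erw [Equiv.symm_apply_apply] at h2
    haveI : PreservesColimitsOfSize.{0, 0} R := ad.leftAdjoint_preservesColimits
    exact (cancel_epi (R.map (cokernel.π ((CxOX.extZeroAdj j).counit.app (freeSh (⊤ : X.Opens)))))).1
      (h2.trans comp_zero.symm)
  exact (IsZero.iff_id_eq_zero _).2 (h _ _)

theorem isZero_rd_supObj : IsZero ((KFlat.Stalk.rd j).obj (DCoh.inD X (supObj j))) :=
  ((DerivedCategory.singleFunctor U.Modules 0).map_isZero (isZero_restrict_supObj j)).of_iso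
    (((Scheme.Modules.restrictFunctor j).mapDerivedCategorySingleFunctor 0).app (supObj j))

theorem hasPointwise_sect : (CxOX.sectZKh j).HasPointwiseRightDerivedFunctor
    (HomotopyCategory.quasiIso X.Modules (ComplexShape.up ℤ)) :=
  RDerived.hasPointwiseRightDerivedFunctor_of_resolutions DerivedCategory.Qh _ _ fun M => by
    obtain ⟨I, hI, s, hs⟩ := exists_local M
    exact ⟨_, s, hs, fun K => CochainComplex.IsKInjective.Qh_map_bijective K I⟩

/-- `H^n_Z(X, K) = Hom(O_Z, RΓ_Z K[n])`. -/
theorem nonempty_rsectZ_hom [CxOX.HasRsectZ j] [CxOX.HasRgammaZ j] (K : DCoh.D X) (n : ℤ) :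
    Nonempty (((DerivedCategory.homologyFunctor AddCommGrpCat.{u} n).obj ((CxOX.RsectZ j).obj K) :
      AddCommGrpCat.{u}) ≃+ (DCoh.inD X (supObj j) ⟶ ((CxOX.RgammaZ j).obj K)⟦n⟧)) := by
  obtain ⟨I, hI, -, ⟨e⟩⟩ := MVPush.exists_rep K
  haveI := hI
  haveI := hasPointwise_sect j
  haveI : IsIso (((CxOX.sectZKh j).totalRightDerivedUnit DerivedCategory.Qh
      (HomotopyCategory.quasiIso X.Modules (ComplexShape.up ℤ))).app ((HomotopyCategory.quotient _ _).obj I)) :=
    RDerived.isIso_unit_app_of_bijective DerivedCategory.Qh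
      (HomotopyCategory.quasiIso X.Modules (ComplexShape.up ℤ)) _ _ _ _
      fun K => CochainComplex.IsKInjective.Qh_map_bijective K I
  let G := ((CxOX.sectZAb j).mapHomologicalComplex (ComplexShape.up ℤ)).obj I
  let e₁ : (CxOX.RsectZ j).obj K ≅ DerivedCategory.Q.obj G :=
    (CxOX.RsectZ j).mapIso (e.symm ≪≫ (DerivedCategory.quotientCompQhIso _).symm.app I) ≪≫
      (asIso (((CxOX.sectZKh j).totalRightDerivedUnit DerivedCategory.Qh
        (HomotopyCategory.quasiIso X.Modules (ComplexShape.up ℤ))).app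
          ((HomotopyCategory.quotient _ _).obj I))).symm ≪≫
      DerivedCategory.Qh.mapIso (((CxOX.sectZAb j).mapHomotopyCategoryFactors (ComplexShape.up ℤ)).app I) ≪≫
      (DerivedCategory.quotientCompQhIso _).app G
  refine ⟨((((DerivedCategory.homologyFunctor AddCommGrpCat.{u} n).mapIso e₁ ≪≫
    (DerivedCategory.homologyFunctorFactors _ n).app G)).addCommGroupIsoToAddEquiv).trans <|
    (homologyEquivHom (CxOX.sectZAb j) (supEquiv j) (supEquiv_natural j) I e n).trans ?_⟩
  let ε := (CxOX.RgammaZToId j).app K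
  let γ : ((CxOX.RgammaZ j).obj K)⟦n⟧ ⟶ K⟦n⟧ := ε⟦n⟧'
  refine (AddEquiv.ofBijective
    (AddMonoidHom.mk' (fun t : DCoh.inD X (supObj j) ⟶ ((CxOX.RgammaZ j).obj K)⟦n⟧ => t ≫ γ)
      (fun a b => Preadditive.add_comp _ _ _ a b γ)) ?_).symm
  obtain ⟨C, p, w, hT, hC⟩ := exists_triangle_loc j K
  have hT' := Pretriangulated.Triangle.shift_distinguished _ hT n
  have hb : Function.Bijective (fun t : DCoh.inD X (supObj j) ⟶ ((CxOX.RgammaZ j).obj K)⟦n⟧ =>
      t ≫ (n.negOnePow • γ)) := bijective_comp_of_loc hT' (hC.shift n) (isZero_rd_supObj j)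
  rcases Int.units_eq_one_or n.negOnePow with h | h <;> rw [h] at hb
  · simpa using hb
  · have := (Equiv.neg _).bijective.comp hb
    simpa [Function.comp_def] using this

end Groth.Agent.H16Derived.RGammaZ
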