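import Groth.Agent.H16Derived.RGammaZ.Push
import Groth.Agent.H16Derived.TorTest.PushProj
import Groth.Agent.H16Derived.ProjFormula.DQc

/-!
# Sections with support and derived tensor products
-/

set_option autoImplicit false
set_option linter.style.haveILetI false
set_option backward.isDefEq.respectTransparency false

universe u

open CategoryTheory CategoryTheory.Limits CategoryTheory.Pretriangulated AlgebraicGeometry

attribute [local instance] HasDerivedCategory.standard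

namespace Groth.Agent.H16Derived.RGammaZ

open Groth.Agent.H16Derived.KFlat Groth.Agent.H16Derived.KFlat.Stalk Groth.Agent.H16Derived.ProjFormula

variable {X : Scheme.{u}}

/-- `- ⊗^L E` is exact. -/
theorem ptri_ltensorCx (E : CochainComplex X.Modules ℤ) [DCoh.HasLTensorCx E] :
    PTri (DCoh.LTensorCx E) := by
  let k := DerivedCategory.Q.obj E
  let e : (Dual.T X).obj k ≅ (Dual.T X).flip.obj k :=
    NatIso.ofComponents (fun a => (Dual.symm₂ (X := X)).app (k, a))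
      (fun {a b} f => (Dual.symm₂ (X := X)).hom.naturality
        (show ((k, a) : DCoh.D X × DCoh.D X) ⟶ (k, b) from (𝟙 k, f)))
  exact (ptri_TObj k).of_iso (e ≪≫ Dual.ltensorCxIsoT E)

/-- `RΓ_Z F ⊗^L E ≅ RΓ_Z (F ⊗^L E)`. -/
theorem tensor_rgammaZ [IsNoetherian X] (U : X.Opens) [CxOX.HasRgammaZ U.ι] {F : DCoh.D X}
    (hF : DCoh.IsQCohD F) (E : CochainComplex X.Modules ℤ) (hE : DCoh.IsQCohD (DCoh.toD X E))
    [DCoh.HasLTensorCx E] :
    (∃ φ : (DCoh.LTensorCx E).obj ((CxOX.RgammaZ U.ι).obj F) ⟶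
        (CxOX.RgammaZ U.ι).obj ((DCoh.LTensorCx E).obj F),
      φ ≫ (CxOX.RgammaZToId U.ι).app ((DCoh.LTensorCx E).obj F) =
        (DCoh.LTensorCx E).map ((CxOX.RgammaZToId U.ι).app F)) ∧
    ∀ φ : (DCoh.LTensorCx E).obj ((CxOX.RgammaZ U.ι).obj F) ⟶
        (CxOX.RgammaZ U.ι).obj ((DCoh.LTensorCx E).obj F),
      φ ≫ (CxOX.RgammaZToId U.ι).app ((DCoh.LTensorCx E).obj F) =
        (DCoh.LTensorCx E).map ((CxOX.RgammaZToId U.ι).app F) → IsIso φ := by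
  let k := DerivedCategory.Q.obj E
  have hA : IsZero ((rd U.ι).obj ((DCoh.LTensorCx E).obj ((CxOX.RgammaZ U.ι).obj F))) := by
    obtain ⟨r⟩ := TorTest.nonempty_rd_T U.ι ((CxOX.RgammaZ U.ι).obj F) k
    refine IsZero.of_iso ?_ ((rd U.ι).mapIso ((Dual.ltensorCxIsoT E).app _).symm ≪≫ r)
    exact Functor.map_isZero ((Dual.T (U : Scheme.{u})).flip.obj ((rd U.ι).obj k))
      (isZero_rd_rgammaZ U.ι F)
  refine ⟨exists_factor _ _ hA _, fun φ hφ => ?_⟩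
  haveI := QCohD.hasRpush U.ι
  haveI := hasLpull U.ι
  haveI : QuasiCompact U.ι := inferInstance
  obtain ⟨C, p, w, hT, hz, G, ⟨eC⟩⟩ := exists_triangle U.ι F
  obtain ⟨I, hI, -, ⟨eI⟩⟩ := MVPush.exists_rep G
  haveI := hI
  have hG : DCoh.IsQCohD (DerivedCategory.Q.obj I) := by
    haveI := Thomason.isIso_restrictRpushAdj_counit U.ι
    have hC : DCoh.IsQCohD C := QCohD.AffineUnit.isQCohD_obj₃ hT (isQCohD_rgammaZ hF) hF
    exact QCohD.isQCohD_iso ((rd U.ι).mapIso eC ≪≫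
      (asIso (Thomason.restrictRpushAdj U.ι).counit).app G ≪≫ eI.symm) (QCohD.isQCohD_rd U.ι hC)
  haveI := isIso_η₀ U.ι I
  haveI := isIso_θ_of_isQCohD U.ι I hG k hE
  let eC' : (DCoh.LTensorCx E).obj C ≅ (DCoh.Rpush U.ι).obj _ :=
    ((Dual.ltensorCxIsoT E).app C).symm ≪≫
      ((Dual.T X).mapIso (eC ≪≫ (DCoh.Rpush U.ι).mapIso eI.symm ≪≫ (asIso ((η₀ U.ι).app I)).symm)).app k ≪≫
      asIso ((θ U.ι I).app k)
  obtain ⟨T', hT', e₁, e₂, e₃, h₁, -⟩ := ptri_ltensorCx E _ hT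
  haveI : IsIso (e₁.hom ≫ φ) := by
    refine isIso_of_loc (g := T'.mor₁ ≫ e₂.hom) (C := T'.obj₃) (p := e₂.inv ≫ T'.mor₂) (w := T'.mor₃) _
      (hA.of_iso ((rd U.ι).mapIso e₁)) (by rw [Category.assoc, hφ]; exact h₁.symm)
      (isomorphic_distinguished _ hT' _ (Triangle.isoMk _ _ (Iso.refl _) e₂.symm (Iso.refl _) ?_ ?_ ?_))
      ((loc_rpush U.ι _).of_iso (e₃ ≪≫ eC').symm)
    · show (T'.mor₁ ≫ e₂.hom) ≫ e₂.inv = 𝟙 _ ≫ T'.mor₁
      simp
    · show (e₂.inv ≫ T'.mor₂) ≫ 𝟙 _ = e₂.inv ≫ T'.mor₂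
      simp
    · show T'.mor₃ ≫ (𝟙 T'.obj₁)⟦(1 : ℤ)⟧' = 𝟙 _ ≫ T'.mor₃
      simp
  exact IsIso.of_isIso_comp_left e₁.hom φ

end Groth.Agent.H16Derived.RGammaZ
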